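import Cfsg.Agent.H66.Powell.Key

/-!
Two `p`-elements which generate a subgroup with a normal `p`-complement together with every
`p`-element: that complement centralises every `p`-subgroup normalised by the two elements.
-/

set_option autoImplicit false
set_option linter.style.haveILetI false

open Subgroup
open scoped commutatorElement

namespace H66.PairGen

open H66.Powell (mem_sup_iff_of_le_normalizer conj_mem_of_mem_normalizer)

variable {G : Type*} [Group G] {H : Type*} [Group H] {p : ℕ}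

/-- `⟨x, y⟩` has a normal `p'`-subgroup with quotient a `p`-group. -/
def PNil (p : ℕ) (x y : G) : Prop :=
  ∃ K : Subgroup G, K ≤ closure {x, y} ∧ (Nat.card K).Coprime p ∧
    closure {x, y} ≤ normalizer (K : Set G) ∧ ∀ g ∈ closure ({x, y} : Set G), ∃ j, g ^ p ^ j ∈ K

theorem PNil.map {x y : G} (h : PNil p x y) (f : G →* H) : PNil p (f x) (f y) := by
  obtain ⟨K, h1, h2, h3, h4⟩ := h
  refine ⟨K.map f, ?_, h2.coprime_dvd_left (card_map_dvd K f), ?_, ?_⟩
  · rw [← H66.Powell.map_closure_pair]; exact Subgroup.map_mono h1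
  · rw [← H66.Powell.map_closure_pair]
    exact (Subgroup.map_mono h3).trans (le_normalizer_map f)
  · intro g hg
    rw [← H66.Powell.map_closure_pair] at hg
    obtain ⟨w, hw, rfl⟩ := hg
    obtain ⟨j, hj⟩ := h4 w hw
    exact ⟨j, w ^ p ^ j, hj, map_pow f w _⟩

theorem PNil.of_injective {x y : G} {f : G →* H} (hf : Function.Injective f)
    (h : PNil p (f x) (f y)) : PNil p x y := by
  obtain ⟨K, h1, h2, h3, h4⟩ := h
  have hmap := H66.Powell.map_closure_pair f x y
  refine ⟨K.comap f, fun w hw => ?_, ?_, fun w hw => ?_, fun w hw => ?_⟩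
  · rw [← mem_map_iff_mem hf, hmap]
    exact h1 hw
  · refine h2.coprime_dvd_left ?_
    rw [← card_map_of_injective (K := K.comap f) hf]
    exact card_dvd_of_le (map_comap_le f K)
  · exact le_normalizer_comap f (show f w ∈ normalizer (K : Set H) from
      h3 (hmap ▸ mem_map_of_mem f hw))
  · obtain ⟨j, hj⟩ := h4 (f w) (hmap ▸ mem_map_of_mem f hw)
    exact ⟨j, show f (w ^ p ^ j) ∈ K by rwa [map_pow]⟩

/-- An exponent projecting every element on its `p'`-part. -/
theorem exists_pPrime_exponent [Finite G] [Fact p.Prime] :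
    ∃ m : ℕ, (∀ (x : G) (j : ℕ), x ^ p ^ j = 1 → x ^ m = 1) ∧
      (∀ x : G, (orderOf x).Coprime p → x ^ m = x) ∧
      (∀ (x : G) (j : ℕ) (K : Subgroup G), x ^ p ^ j ∈ K → x ^ m ∈ K) := by
  have hp : p.Prime := Fact.out
  obtain ⟨e, r, hr, hcr⟩ :=
    Nat.exists_eq_pow_mul_and_not_dvd (Nat.card_pos (α := G)).ne' p hp.ne_one
  have hco : (p ^ e).Coprime r := (hp.coprime_iff_not_dvd.mpr hr).pow_left e
  obtain ⟨m, hm0, hm1⟩ := Nat.chineseRemainder hco 0 1
  have hcop : ∀ x : G, (orderOf x).Coprime p → x ^ r = 1 := by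
    intro x hx
    refine orderOf_dvd_iff_pow_eq_one.mp ((hx.pow_right e).dvd_of_dvd_mul_left ?_)
    rw [← hcr]; exact orderOf_dvd_natCard x
  have hr1 : ∀ x : G, x ^ r = 1 → x ^ m = x := fun x hx =>
    H66.Powell.pow_eq_self_of_modEq hm1 hx
  refine ⟨m, fun x j hj => ?_, fun x hx => hr1 x (hcop x hx), fun x j K hK => ?_⟩
  · obtain ⟨i, -, hi⟩ := (Nat.dvd_prime_pow hp).mp (orderOf_dvd_of_pow_eq_one hj)
    refine orderOf_dvd_iff_pow_eq_one.mp (dvd_trans ?_ (Nat.modEq_zero_iff_dvd.mp hm0))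
    rw [hi]
    refine (Nat.Coprime.pow_left i (hp.coprime_iff_not_dvd.mpr hr)).dvd_of_dvd_mul_right ?_
    rw [← hi, ← hcr]; exact orderOf_dvd_natCard x
  · obtain ⟨u, hu⟩ := Nat.chineseRemainder
      ((hp.coprime_iff_not_dvd.mpr hr).pow_left j : (p ^ j).Coprime r) 0 1
    obtain ⟨v, rfl⟩ := Nat.modEq_zero_iff_dvd.mp hu.1
    have hxr : (x ^ m) ^ r = 1 := by
      rw [← pow_mul]
      refine orderOf_dvd_iff_pow_eq_one.mp ((orderOf_dvd_natCard x).trans ?_)
      rw [hcr]
      exact mul_dvd_mul_right (Nat.modEq_zero_iff_dvd.mp hm0) r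
    rw [← H66.Powell.pow_eq_self_of_modEq hu.2 hxr, ← pow_mul,
      show m * (p ^ j * v) = p ^ j * (m * v) by ring, pow_mul]
    exact pow_mem hK _

/-- An abelian `p`-group and a `p'`-group acting: the commutator subgroup has no fixed points. -/
theorem eq_one_of_fixed_of_mem_commutator [Finite G] [Fact p.Prime] {A K : Subgroup G}
    (hA : IsPGroup p A) (hab : ∀ a ∈ A, ∀ b ∈ A, a * b = b * a)
    (hn : K ≤ normalizer (A : Set G)) (hK : (Nat.card K).Coprime p) {b : G} (hb : b ∈ ⁅A, K⁆)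
    (hcomm : ∀ x ∈ K, x * b = b * x) : b = 1 := by
  classical
  haveI : IsMulCommutative A := ⟨⟨fun a b => Subtype.ext (hab a a.2 b b.2)⟩⟩
  letI : CommGroup A := IsMulCommutative.instCommGroup
  haveI : Fintype K := Fintype.ofFinite _
  let c : K → A → A := fun x a =>
    ⟨x * a * (x : G)⁻¹, conj_mem_of_mem_normalizer (hn x.2) a.2⟩
  have hc : ∀ x a b, c x (a * b) = c x a * c x b := fun x a b =>
    Subtype.ext (by simp [c, mul_assoc])
  let N : A →* A := MonoidHom.mk' (fun a => ∏ x : K, c x a) fun a b => by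
    rw [← Finset.prod_mul_distrib]
    exact Finset.prod_congr rfl fun x _ => hc x a b
  have hle : ⁅A, K⁆ ≤ N.ker.map A.subtype := by
    rw [commutator_le]
    intro a ha y hy
    have hmem : ⁅a, y⁆ ∈ A := by
      have h := mul_mem ha (conj_mem_of_mem_normalizer (hn hy) (inv_mem ha))
      simpa [commutatorElement_def, mul_assoc] using h
    refine ⟨⟨⁅a, y⁆, hmem⟩, ?_, rfl⟩
    rw [SetLike.mem_coe, MonoidHom.mem_ker]
    have hsplit : (⟨⁅a, y⁆, hmem⟩ : A) = ⟨a, ha⟩ * (c ⟨y, hy⟩ ⟨a, ha⟩)⁻¹ :=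
      Subtype.ext (by simp [c, commutatorElement_def, mul_assoc])
    rw [hsplit, map_mul, map_inv, mul_inv_eq_one]
    calc N ⟨a, ha⟩ = ∏ x : K, c (x * ⟨y, hy⟩) ⟨a, ha⟩ :=
          (Equiv.prod_comp (Equiv.mulRight (⟨y, hy⟩ : K)) (fun x => c x ⟨a, ha⟩)).symm
      _ = N (c ⟨y, hy⟩ ⟨a, ha⟩) :=
          Finset.prod_congr rfl fun x _ => Subtype.ext (by simp [c, mul_assoc])
  obtain ⟨z, hz, rfl⟩ := hle hb
  have hN' : z ^ Fintype.card K = 1 := by
    rw [← Finset.card_univ, ← Finset.prod_const, ← (MonoidHom.mem_ker.mp hz)]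
    refine Finset.prod_congr rfl fun x _ => Subtype.ext ?_
    change (z : G) = x * z * (x : G)⁻¹
    rw [show (x : G) * z = z * x from hcomm x x.2, mul_inv_cancel_right]
  obtain ⟨n, hn'⟩ := hA z
  have h := (pow_gcd_eq_one (a := z)).mpr ⟨hn', hN'⟩
  rw [← Nat.card_eq_fintype_card, (Nat.Coprime.pow_left n hK.symm).gcd_eq_one, pow_one] at h
  rw [h, map_one]

/-- Two `p'`-groups congruent modulo an abelian normalised `p`-group are conjugate. -/
theorem exists_conj_of_congr [Finite G] [Fact p.Prime] {W N N' : Subgroup G} (hW : IsPGroup p W)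
    (hab : ∀ a ∈ W, ∀ b ∈ W, a * b = b * a) (hN : (Nat.card N).Coprime p)
    (hN' : (Nat.card N').Coprime p) (hn : N ≤ normalizer (W : Set G))
    (hlift : ∀ x ∈ N, ∃ t ∈ W, t * x ∈ N') (hlow : ∀ y ∈ N', ∃ x ∈ N, ∃ t ∈ W, t * x = y) :
    ∃ u ∈ W, ∀ y, y ∈ N' ↔ u⁻¹ * y * u ∈ N := by
  classical
  haveI : IsMulCommutative W := ⟨⟨fun a b => Subtype.ext (hab a a.2 b b.2)⟩⟩
  letI : CommGroup W := IsMulCommutative.instCommGroup
  haveI : Fintype N := Fintype.ofFinite _
  have hWN' : ∀ b ∈ W, b ∈ N' → b = 1 := by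
    intro b hb hb'
    obtain ⟨n, hn'⟩ := hW ⟨b, hb⟩
    have h1 : b ^ p ^ n = 1 := by simpa using congrArg Subtype.val hn'
    have h2 : b ^ Nat.card N' = 1 := by
      have h0 := congrArg Subtype.val (pow_card_eq_one' (x := (⟨b, hb'⟩ : N')))
      rw [SubmonoidClass.coe_pow, Subgroup.coe_one] at h0
      exact h0
    have h := (pow_gcd_eq_one (a := b)).mpr ⟨h1, h2⟩
    rwa [(Nat.Coprime.pow_left n hN'.symm).gcd_eq_one, pow_one] at h
  have huniq : ∀ t ∈ W, ∀ t' ∈ W, ∀ x, t * x ∈ N' → t' * x ∈ N' → t = t' := by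
    intro t ht t' ht' x h h'
    refine mul_inv_eq_one.mp (hWN' _ (mul_mem ht (inv_mem ht')) ?_)
    have := mul_mem h (inv_mem h')
    simpa [mul_assoc] using this
  have hlift0 : ∀ x : N, ∃ t : W, (t : G) * x ∈ N' := fun x => by
    obtain ⟨t, ht, h⟩ := hlift x x.2
    exact ⟨⟨t, ht⟩, h⟩
  choose t ht using hlift0
  let c : N → W → W := fun x a =>
    ⟨x * a * (x : G)⁻¹, conj_mem_of_mem_normalizer (hn x.2) a.2⟩
  have hcmul : ∀ x a b, c x (a * b) = c x a * c x b := fun x a b =>
    Subtype.ext (by simp [c, mul_assoc])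
  have hcoc : ∀ x y : N, t (x * y) = t x * c x (t y) := fun x y => by
    apply Subtype.ext
    refine huniq _ (t (x * y)).2 _ (t x * c x (t y)).2 ((x * y : N) : G) (ht _) ?_
    have := mul_mem (ht x) (ht y)
    simpa [c, mul_assoc] using this
  set u : W := ∏ y : N, t y
  have hu : ∀ x : N, u = t x ^ Fintype.card N * c x u := fun x => by
    calc u = ∏ y : N, t (x * y) := (Equiv.prod_comp (Equiv.mulLeft x) t).symm
      _ = (∏ _y : N, t x) * ∏ y : N, c x (t y) := by
          rw [← Finset.prod_mul_distrib]; exact Finset.prod_congr rfl fun y _ => hcoc x y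
      _ = t x ^ Fintype.card N * c x u := by
          rw [Finset.prod_const, Finset.card_univ]
          congr 1
          exact (map_prod (MonoidHom.mk' (c x) (hcmul x)) t Finset.univ).symm
  obtain ⟨m, hm⟩ := hW.exists_card_eq
  have hco : (Nat.card W).Coprime (Fintype.card N) := by
    rw [← Nat.card_eq_fintype_card, hm]
    exact Nat.Coprime.pow_left _ hN.symm
  set a : W := (powCoprime hco).symm u
  have ha : a ^ Fintype.card N = u := (powCoprime hco).apply_symm_apply u
  have hta : ∀ x : N, t x * c x a = a := fun x => by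
    apply (powCoprime hco).injective
    simp only [powCoprime_apply, mul_pow, ha]
    have h3 : c x a ^ Fintype.card N = c x u := by
      rw [← ha]; exact (map_pow (MonoidHom.mk' (c x) (hcmul x)) a _).symm
    rw [h3, ← hu x]
  have htW : ∀ x : N, (t x : G) * x = a * x * (a : G)⁻¹ := fun x => by
    have h := congrArg Subtype.val (hta x)
    simp only [Subgroup.coe_mul, c] at h
    rw [eq_mul_inv_iff_mul_eq]
    calc (t x : G) * x * a = (t x : G) * (x * a * (x : G)⁻¹) * x := by group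
      _ = a * x := by rw [h]
  refine ⟨a, a.2, fun y => ⟨fun hy => ?_, fun hy => ?_⟩⟩
  · obtain ⟨x, hx, s, hs, rfl⟩ := hlow y hy
    rw [huniq s hs (t ⟨x, hx⟩) (t ⟨x, hx⟩).2 x hy (ht ⟨x, hx⟩), htW ⟨x, hx⟩]
    simpa [mul_assoc] using hx
  · have h := ht ⟨_, hy⟩
    rw [htW] at h
    simpa [mul_assoc] using h

/-- The abelian case without fixed points. -/
theorem eq_bot_of_fixedFree [Finite G] [Fact p.Prime] {z a : G}
    (ha : ∃ j, a ^ p ^ j = 1)
    (hz : ∀ b : G, (∃ j, b ^ p ^ j = 1) → PNil p z b)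
    {K W : Subgroup G} (hK1 : K ≤ closure {z, a}) (hKc : (Nat.card K).Coprime p)
    (hK3 : closure {z, a} ≤ normalizer (K : Set G))
    (hK4 : ∀ g ∈ closure ({z, a} : Set G), ∃ j, g ^ p ^ j ∈ K)
    (hW : IsPGroup p W) (hab : ∀ x ∈ W, ∀ y ∈ W, x * y = y * x)
    (hn : closure {z, a} ≤ normalizer (W : Set G))
    (hfix : ∀ x ∈ W, (∀ k ∈ K, k * x = x * k) → x = 1) :
    ∀ x ∈ W, z * x = x * z := by
  classical
  obtain ⟨m, hm1, hm2, hm3⟩ := exists_pPrime_exponent (G := G) (p := p)
  have hzE : z ∈ closure ({z, a} : Set G) := subset_closure (by simp)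
  have haE : a ∈ closure ({z, a} : Set G) := subset_closure (by simp)
  have hKn : K ≤ normalizer (W : Set G) := hK1.trans hn
  have hord : ∀ {J : Subgroup G}, (Nat.card J).Coprime p → ∀ x ∈ J, x ^ m = x := fun hJ x hx =>
    hm2 x (hJ.coprime_dvd_left (Subgroup.orderOf_dvd_natCard _ hx))
  -- powers of translates
  have hpow : ∀ x ∈ normalizer (W : Set G), ∀ t ∈ W, ∀ n : ℕ,
      ∃ s ∈ W, (t * x) ^ n = s * x ^ n := by
    intro x hx t ht n
    induction n with
    | zero => exact ⟨1, one_mem _, by simp⟩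
    | succ n ih =>
      obtain ⟨s, hs, hsn⟩ := ih
      refine ⟨s * (x ^ n * t * (x ^ n)⁻¹),
        mul_mem hs (conj_mem_of_mem_normalizer (pow_mem hx n) ht), ?_⟩
      rw [pow_succ, hsn, pow_succ]; group
  -- every translate of `a` is a conjugate by a fixed point of `z`
  have key : ∀ w ∈ W, ∃ u ∈ W, z * u = u * z ∧ w * a = u * a * u⁻¹ := by
    intro w hw
    obtain ⟨ja, hja⟩ := ha
    have hbp : ∃ j, (w * a) ^ p ^ j = 1 := by
      obtain ⟨s, hs, hsn⟩ := hpow a (hn haE) w hw (p ^ ja)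
      rw [hja, mul_one] at hsn
      obtain ⟨i, hi⟩ := hW ⟨s, hs⟩
      refine ⟨ja + i, ?_⟩
      rw [pow_add, pow_mul, hsn]
      simpa using congrArg Subtype.val hi
    obtain ⟨K', hK'1, hK'c, hK'3, hK'4⟩ := hz (w * a) hbp
    have hzE' : z ∈ closure ({z, w * a} : Set G) := subset_closure (by simp)
    have hbE' : w * a ∈ closure ({z, w * a} : Set G) := subset_closure (by simp)
    have hn' : closure {z, w * a} ≤ normalizer (W : Set G) := by
      rw [closure_le]
      refine Set.insert_subset_iff.mpr ⟨?_, Set.singleton_subset_iff.mpr ?_⟩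
      · exact hn hzE
      · exact mul_mem (le_normalizer hw) (hn haE)
    have hle1 : closure {z, a} ≤ W ⊔ closure {z, w * a} := by
      rw [closure_le]
      refine Set.insert_subset_iff.mpr ⟨?_, Set.singleton_subset_iff.mpr ?_⟩
      · exact mem_sup_right hzE'
      · simpa using mul_mem (mem_sup_left (T := closure {z, w * a}) (inv_mem hw))
          (mem_sup_right hbE')
    have hle2 : closure {z, w * a} ≤ W ⊔ closure {z, a} := by
      rw [closure_le]
      refine Set.insert_subset_iff.mpr ⟨?_, Set.singleton_subset_iff.mpr ?_⟩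
      · exact mem_sup_right hzE
      · exact mul_mem (mem_sup_left hw) (mem_sup_right haE)
    have hlift : ∀ x ∈ K, ∃ t ∈ W, t * x ∈ K' := by
      intro x hx
      obtain ⟨t, ht, e, he, hte⟩ :=
        (mem_sup_iff_of_le_normalizer hn').mp (hle1 (hK1 hx))
      obtain ⟨j, hj⟩ := hK'4 e he
      obtain ⟨s, hs, hsn⟩ := hpow x (hKn hx) t⁻¹ (inv_mem ht) m
      refine ⟨s, hs, ?_⟩
      rw [hord hKc x hx] at hsn
      rw [← hsn, ← hte, inv_mul_cancel_left]
      exact hm3 e j K' hj
    have hlow : ∀ y ∈ K', ∃ x ∈ K, ∃ t ∈ W, t * x = y := by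
      intro y hy
      obtain ⟨t, ht, e, he, hte⟩ :=
        (mem_sup_iff_of_le_normalizer hn).mp (hle2 (hK'1 hy))
      obtain ⟨j, hj⟩ := hK4 e he
      obtain ⟨s, hs, hsn⟩ := hpow e (hn he) t ht m
      refine ⟨e ^ m, hm3 e j K hj, s, hs, ?_⟩
      rw [← hsn, hte, hord hK'c y hy]
    obtain ⟨u, hu, hiff⟩ := exists_conj_of_congr hW hab hKc hK'c hKn hlift hlow
    -- an element normalising both complements, congruent to one normalising `K`
    have hcong : ∀ e ∈ closure ({z, a} : Set G), ∀ e' ∈ closure ({z, w * a} : Set G),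
        e' * e⁻¹ ∈ W → u⁻¹ * e' * u = e := by
      intro e he e' he' hee'
      set b := u⁻¹ * e' * u * e⁻¹ with hb
      have hbW : b ∈ W := by
        rw [show b = u⁻¹ * (e' * e⁻¹) * (e * u * e⁻¹) by rw [hb]; group]
        exact mul_mem (mul_mem (inv_mem hu) hee') (conj_mem_of_mem_normalizer (hn he) hu)
      suffices h : b = 1 by rwa [hb, mul_inv_eq_one] at h
      refine hfix b hbW fun k hk => ?_
      have hk' : b * k * b⁻¹ ∈ K := by
        have h1 : u * (e⁻¹ * k * e) * u⁻¹ ∈ K' := by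
          rw [hiff]
          have := conj_mem_of_mem_normalizer (inv_mem (hK3 he)) hk
          simpa [mul_assoc] using this
        have h2 := (hiff _).mp (conj_mem_of_mem_normalizer (hK'3 he') h1)
        rw [hb]
        simpa [mul_assoc] using h2
      have h3 : b * k * b⁻¹ * k⁻¹ ∈ K := mul_mem hk' (inv_mem hk)
      have h4 : b * k * b⁻¹ * k⁻¹ ∈ W := by
        rw [show b * k * b⁻¹ * k⁻¹ = b * (k * b⁻¹ * k⁻¹) by group]
        exact mul_mem hbW (conj_mem_of_mem_normalizer (hKn hk) (inv_mem hbW))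
      obtain ⟨i, hi⟩ := hW ⟨_, h4⟩
      have h5 := hord hKc _ h3
      rw [hm1 _ i (by simpa using congrArg Subtype.val hi)] at h5
      exact (commutatorElement_eq_one_iff_mul_comm.mp h5.symm).symm
    refine ⟨u, hu, ?_, ?_⟩
    · have h := hcong z hzE z hzE' (by simp)
      rwa [mul_assoc, inv_mul_eq_iff_eq_mul] at h
    · have h := hcong a haE (w * a) hbE' (by simpa using hw)
      calc w * a = u * (u⁻¹ * (w * a) * u) * u⁻¹ := by group
        _ = u * a * u⁻¹ := by rw [h]
  -- counting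
  set C := W ⊓ centralizer ({z} : Set G) with hC
  have hsurj : ∀ w : W, ∃ u : C, (w : G) * a = u * a * (u : G)⁻¹ := fun w => by
    obtain ⟨u, hu, hzu, h⟩ := key w w.2
    exact ⟨⟨u, hu, mem_centralizer_singleton_iff.mpr hzu.symm⟩, h⟩
  choose F hF using hsurj
  have hinj : Function.Injective F := fun q r h => by
    have hq := hF q
    rw [h] at hq
    exact Subtype.ext (mul_right_cancel (hq.trans (hF r).symm))
  have hWC : C = W := eq_of_le_of_card_ge inf_le_left (Nat.card_le_card_of_injective F hinj)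
  intro x hx
  rw [← hWC] at hx
  exact (mem_centralizer_singleton_iff.mp hx.2).symm

/-- The complement of `⟨z, a⟩` centralises every `p`-subgroup normalised by `z` and `a`. -/
theorem complement_centralizes [Finite G] [Fact p.Prime] {z a : G}
    (hzp : ∃ j, z ^ p ^ j = 1) (hap : ∃ j, a ^ p ^ j = 1)
    (hz : ∀ b : G, (∃ j, b ^ p ^ j = 1) → PNil p z b)
    (ha : ∀ b : G, (∃ j, b ^ p ^ j = 1) → PNil p a b)
    {K : Subgroup G} (hK1 : K ≤ closure {z, a}) (hKc : (Nat.card K).Coprime p)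
    (hK3 : closure {z, a} ≤ normalizer (K : Set G))
    (hK4 : ∀ g ∈ closure ({z, a} : Set G), ∃ j, g ^ p ^ j ∈ K)
    (W : Subgroup G) (hW : IsPGroup p W) (hn : closure {z, a} ≤ normalizer (W : Set G)) :
    ∀ k ∈ K, ∀ x ∈ W, k * x = x * k := by
  classical
  obtain ⟨m0, hm1, hm2, -⟩ := exists_pPrime_exponent (G := G) (p := p)
  induction W using WellFoundedLT.induction with
  | _ W ih =>
  intro k hk x hx
  by_cases hW0 : W = ⊥
  · rw [hW0, mem_bot] at hx
    simp [hx]
  set D := ⁅W, W⁆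
  haveI : Group.IsNilpotent W := hW.isNilpotent
  haveI : Nontrivial W := (nontrivial_iff_ne_bot W).mpr hW0
  have hDlt : D < W := by
    have h : (commutator W).map W.subtype = D := W.map_subtype_commutator
    refine lt_of_le_of_ne (h ▸ map_subtype_le _) fun he => ?_
    refine (Group.IsSolvable.commutator_lt_top_of_nontrivial (G := W)).ne ?_
    apply Subgroup.map_injective W.subtype_injective
    rw [h, he, ← MonoidHom.range_eq_map, range_subtype]
  have hDn : ∀ g ∈ normalizer (W : Set G), g ∈ normalizer (D : Set G) := by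
    intro g hg
    rw [mem_normalizer_iff_map_conj_eq] at hg ⊢
    rw [map_commutator, hg]
  have hDcent : ∀ c ∈ D, k * c = c * k :=
    fun c hc => ih D hDlt (hW.to_le hDlt.le) (fun g hg => hDn g (hn hg)) k hk c hc
  -- pass to the normaliser modulo `D`
  set N := normalizer (W : Set G) with hNdef
  let W' : Subgroup N := W.subgroupOf N
  haveI : W'.Normal := normal_in_normalizer
  let q := QuotientGroup.mk' ⁅W', W'⁆
  have hzN : z ∈ N := hn (subset_closure (by simp))
  have haN : a ∈ N := hn (subset_closure (by simp))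
  set z1 : N := ⟨z, hzN⟩
  set a1 : N := ⟨a, haN⟩
  have hmap : (closure {z1, a1}).map N.subtype = closure {z, a} := H66.Powell.map_closure_pair _ _ _
  set K1 : Subgroup N := K.subgroupOf N
  have hKN : K ≤ N := hK1.trans hn
  have hdesc : ∀ c : N, (∀ b : G, (∃ j, b ^ p ^ j = 1) → PNil p (c : G) b) →
      ∀ b : N ⧸ ⁅W', W'⁆, (∃ j, b ^ p ^ j = 1) → PNil p (q c) b := by
    rintro c hc b ⟨j, hj⟩
    obtain ⟨x0, rfl⟩ := QuotientGroup.mk'_surjective _ b
    obtain ⟨n, e, hne, hn1⟩ := H66.Powell.exists_pow_sPart (Fact.out : p.Prime) x0 j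
    have h1 : q (x0 ^ n) = q x0 := by
      rw [map_pow]
      exact H66.Powell.pow_eq_self_of_modEq hn1 hj
    rw [← h1]
    exact (PNil.of_injective (f := N.subtype) N.subtype_injective
      (hc _ ⟨e, by simpa using congrArg Subtype.val hne⟩)).map q
  have hordp : ∀ c : N, (∃ j, (c : G) ^ p ^ j = 1) → ∃ j, (q c) ^ p ^ j = 1 := by
    rintro c ⟨j, hj⟩
    refine ⟨j, ?_⟩
    rw [← map_pow, show c ^ p ^ j = 1 from Subtype.ext (by simpa using hj), map_one]
  -- the data in the quotient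
  set Wq := W'.map q
  haveI : Wq.Normal := Normal.map inferInstance q (QuotientGroup.mk'_surjective _)
  set Kq := K1.map q
  have hKq1 : Kq ≤ closure {q z1, q a1} := by
    rw [← H66.Powell.map_closure_pair]
    refine Subgroup.map_mono fun y hy => ?_
    rw [← mem_map_iff_mem N.subtype_injective, hmap]
    exact hK1 hy
  have hKqc : (Nat.card Kq).Coprime p := by
    refine hKc.coprime_dvd_left ((card_map_dvd K1 q).trans ?_)
    rw [Nat.card_congr (subgroupOfEquivOfLe hKN).toEquiv]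
  have hKq3 : closure {q z1, q a1} ≤ normalizer (Kq : Set (N ⧸ ⁅W', W'⁆)) := by
    rw [← H66.Powell.map_closure_pair]
    refine (Subgroup.map_mono ?_).trans (le_normalizer_map q)
    intro y hy
    exact le_normalizer_comap N.subtype (show (y : G) ∈ normalizer (K : Set G) from
      hK3 (hmap ▸ mem_map_of_mem N.subtype hy))
  have hKq4 : ∀ g ∈ closure ({q z1, q a1} : Set (N ⧸ ⁅W', W'⁆)), ∃ j, g ^ p ^ j ∈ Kq := by
    intro g hg
    rw [← H66.Powell.map_closure_pair] at hg
    obtain ⟨y, hy, rfl⟩ := hg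
    obtain ⟨j, hj⟩ := hK4 _ (hmap ▸ mem_map_of_mem N.subtype hy)
    exact ⟨j, y ^ p ^ j, by simpa [K1, mem_subgroupOf] using hj, map_pow q y _⟩
  have hWqp : IsPGroup p Wq := (hW.comap_of_injective N.subtype N.subtype_injective).map q
  have hWqab : ∀ u ∈ Wq, ∀ v ∈ Wq, u * v = v * u := by
    rintro _ ⟨u, hu, rfl⟩ _ ⟨v, hv, rfl⟩
    rw [← commutatorElement_eq_one_iff_mul_comm, ← map_commutatorElement]
    exact (QuotientGroup.eq_one_iff _).mpr (commutator_mem_commutator hu hv)
  set W1 := ⁅Wq, Kq⁆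
  have hKqn : Kq ≤ normalizer (Wq : Set (N ⧸ ⁅W', W'⁆)) := le_normalizer_of_normal
  have hW1le : W1 ≤ Wq := commutator_le_left Wq Kq
  have hW1n : closure {q z1, q a1} ≤ normalizer (W1 : Set (N ⧸ ⁅W', W'⁆)) := by
    intro g hg
    rw [mem_normalizer_iff_map_conj_eq, map_commutator,
      mem_normalizer_iff_map_conj_eq.mp (le_normalizer_of_normal (show g ∈ (⊤ : Subgroup _) from
        mem_top g)), mem_normalizer_iff_map_conj_eq.mp (hKq3 hg)]
  have hfix : ∀ u ∈ W1, (∀ v ∈ Kq, v * u = u * v) → u = 1 := fun u hu hc =>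
    eq_one_of_fixed_of_mem_commutator hWqp hWqab hKqn hKqc hu hc
  have hzc := eq_bot_of_fixedFree (hordp a1 hap) (hdesc z1 hz) hKq1 hKqc hKq3 hKq4
    (hWqp.to_le hW1le) (fun u hu v hv => hWqab u (hW1le hu) v (hW1le hv)) hW1n hfix
  have hswap : ({q z1, q a1} : Set (N ⧸ ⁅W', W'⁆)) = {q a1, q z1} := Set.pair_comm _ _
  have hac := eq_bot_of_fixedFree (hordp z1 hzp) (hdesc a1 ha) (hswap ▸ hKq1) hKqc (hswap ▸ hKq3)
    (hswap ▸ hKq4) (hWqp.to_le hW1le) (fun u hu v hv => hWqab u (hW1le hu) v (hW1le hv))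
    (hswap ▸ hW1n) hfix
  have hcq : ∀ u ∈ Wq, ∀ v ∈ Kq, u * v = v * u := by
    intro u hu v hv
    refine commutatorElement_eq_one_iff_mul_comm.mp (hfix _ (commutator_mem_commutator hu hv) ?_)
    intro v' hv'
    have hle : closure {q z1, q a1} ≤ centralizer ({⁅u, v⁆} : Set (N ⧸ ⁅W', W'⁆)) := by
      rw [closure_le]
      refine Set.insert_subset_iff.mpr ⟨?_, Set.singleton_subset_iff.mpr ?_⟩ <;>
        rw [SetLike.mem_coe, mem_centralizer_singleton_iff]
      · exact hzc _ (commutator_mem_commutator hu hv)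
      · exact hac _ (commutator_mem_commutator hu hv)
    exact mem_centralizer_singleton_iff.mp (hle (hKq1 hv'))
  -- lift
  set c := k * x * k⁻¹ * x⁻¹ with hc
  have hcD : c ∈ D := by
    have hq := (hcq _ ⟨⟨x, le_normalizer hx⟩, hx, rfl⟩ _ ⟨⟨k, hKN hk⟩, hk, rfl⟩).symm
    have h1 : ⁅(⟨k, hKN hk⟩ : N), (⟨x, le_normalizer hx⟩ : N)⁆ ∈ ⁅W', W'⁆ := by
      refine (QuotientGroup.eq_one_iff _).mp ?_
      change q _ = 1
      rw [map_commutatorElement]
      exact commutatorElement_eq_one_iff_mul_comm.mpr hq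
    have h2 := mem_map_of_mem N.subtype h1
    rw [map_commutator, map_commutatorElement, map_subgroupOf_eq_of_le le_normalizer] at h2
    exact h2
  have hpw : ∀ n : ℕ, k ^ n * x * (k ^ n)⁻¹ = c ^ n * x := by
    intro n
    induction n with
    | zero => simp
    | succ n hn' =>
      have hck : Commute k (c ^ n) := Commute.pow_right (show Commute k c from hDcent c hcD) n
      calc k ^ (n + 1) * x * (k ^ (n + 1))⁻¹ = k * (k ^ n * x * (k ^ n)⁻¹) * k⁻¹ := by
            rw [pow_succ']; group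
        _ = c ^ n * (k * x * k⁻¹) := by rw [hn', ← mul_assoc, hck.eq]; group
        _ = c ^ (n + 1) * x := by rw [pow_succ, hc]; group
  have hc1 : c = 1 := by
    obtain ⟨i, hi⟩ := hW ⟨c, hDlt.le hcD⟩
    have h1 : c ^ p ^ i = 1 := by simpa using congrArg Subtype.val hi
    have h := hpw (Nat.card K)
    have hk1 := congrArg Subtype.val (pow_card_eq_one' (x := (⟨k, hk⟩ : K)))
    rw [SubmonoidClass.coe_pow, Subgroup.coe_one] at hk1
    rw [hk1] at h
    have h2 : c ^ Nat.card K = 1 := by simpa using h.symm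
    have h3 := (pow_gcd_eq_one (a := c)).mpr ⟨h1, h2⟩
    rwa [(Nat.Coprime.pow_left i hKc.symm).gcd_eq_one, pow_one] at h3
  exact commutatorElement_eq_one_iff_mul_comm.mp hc1

end H66.PairGen
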