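import Cfsg.Agent.H66.PairGen.Action
import Cfsg.Agent.H10.PSolvableDual
import Cfsg.Agent.H65.BaerSuzuki
import Cfsg.Agent.H31.ExtOdd.Setup

/-!
A group in which any two Sylow `p`-subgroups generate a `p`-soluble subgroup: elements central in
some Sylow subgroup, and the weakly closed abelian subgroup they give.
-/

set_option autoImplicit false
set_option linter.style.haveILetI false

open Subgroup Cfsg
open scoped commutatorElement

namespace H66.PairGen

open H70 H31.EXO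

variable {G : Type*} [Group G] {p : ℕ}

/-- In a `p`-soluble group an element central in a Sylow subgroup lies in `O_{p',p}` and its image
centralises `O_p` of the quotient by `O_{p'}`. -/
theorem mk_mem_pCore_of_central [Finite G] [Fact p.Prime] (hG : IsPSolvable p G) (S : Sylow p G)
    {z : G} (hz : z ∈ (S : Subgroup G)) (hc : ∀ s ∈ (S : Subgroup G), s * z = z * s) :
    QuotientGroup.mk' (pPrimeCore p G) z ∈ pCore p (G ⧸ pPrimeCore p G) ∧
      ∀ y ∈ pCore p (G ⧸ pPrimeCore p G),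
        y * QuotientGroup.mk' (pPrimeCore p G) z = QuotientGroup.mk' (pPrimeCore p G) z * y := by
  set q := QuotientGroup.mk' (pPrimeCore p G)
  have hle := H10.pCore_le_sylow (S.mapSurjective (QuotientGroup.mk'_surjective (pPrimeCore p G)))
  rw [Sylow.coe_mapSurjective] at hle
  have hcomm : ∀ y ∈ pCore p (G ⧸ pPrimeCore p G), y * q z = q z * y := by
    intro y hy
    obtain ⟨s, hs, rfl⟩ := hle hy
    rw [← map_mul, hc s hs, map_mul]
  refine ⟨H10.centralizer_pCore_le (H10.isPSolvable_quotient hG _)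
    H10.pPrimeCore_quotient_pPrimeCore (mem_centralizer_iff.mpr fun y hy => hcomm y hy), hcomm⟩

/-- `z` is central in some Sylow subgroup. -/
def IsCentral (p : ℕ) (z : G) : Prop :=
  ∃ P : Sylow p G, z ∈ (P : Subgroup G) ∧ ∀ s ∈ (P : Subgroup G), s * z = z * s

theorem IsCentral.conj {z : G} (h : IsCentral p z) (g : G) : IsCentral p (g * z * g⁻¹) := by
  obtain ⟨P, hz, hc⟩ := h
  refine ⟨g • P, ?_, ?_⟩
  · rw [Sylow.smul_def, Sylow.pointwise_smul_def]
    exact ⟨z, hz, rfl⟩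
  · intro s hs
    rw [Sylow.smul_def, Sylow.pointwise_smul_def] at hs
    obtain ⟨t, ht, rfl⟩ := hs
    simp only [MulDistribMulAction.toMonoidEnd_apply, MulDistribMulAction.toMonoidHom_apply,
      MulAut.smul_def, MulAut.conj_apply]
    calc g * t * g⁻¹ * (g * z * g⁻¹) = g * (t * z) * g⁻¹ := by group
      _ = g * (z * t) * g⁻¹ := by rw [hc t ht]
      _ = g * z * g⁻¹ * (g * t * g⁻¹) := by group

theorem IsCentral.exists_pow {z : G} (h : IsCentral p z) : ∃ j, z ^ p ^ j = 1 := by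
  obtain ⟨P, hz, -⟩ := h
  obtain ⟨j, hj⟩ := P.2 ⟨z, hz⟩
  exact ⟨j, by simpa using congrArg Subtype.val hj⟩

theorem mem_sylow_subgroupOf [Finite G] [Fact p.Prime] (P : Sylow p G) {L : Subgroup G}
    (h : (P : Subgroup G) ≤ L) :
    ∃ S : Sylow p L, (S : Subgroup L) = (P : Subgroup G).subgroupOf L :=
  ⟨P.subtype h, rfl⟩

/-- An element central in a Sylow subgroup and any `p`-element generate a `p`-nilpotent group. -/
theorem pNil_of_central [Finite G] [Fact p.Prime]
    (hpair : ∀ P Q : Sylow p G, IsPSolvable p ↥((P : Subgroup G) ⊔ Q)) {z b : G}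
    (hz : IsCentral p z) (hb : ∃ j, b ^ p ^ j = 1) : PNil p z b := by
  obtain ⟨P, hzP, hzc⟩ := hz
  obtain ⟨j, hj⟩ := hb
  have hbp : IsPGroup p (zpowers b) := by
    rw [IsPGroup.iff_card, Nat.card_zpowers]
    obtain ⟨i, -, hi⟩ := (Nat.dvd_prime_pow Fact.out).mp (orderOf_dvd_of_pow_eq_one hj)
    exact ⟨i, hi⟩
  obtain ⟨Q, hQ⟩ := hbp.exists_le_sylow
  set L := (P : Subgroup G) ⊔ Q with hL
  obtain ⟨S, hS⟩ := mem_sylow_subgroupOf P (L := L) le_sup_left
  set z' : L := ⟨z, mem_sup_left hzP⟩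
  set b' : L := ⟨b, mem_sup_right (hQ (mem_zpowers b))⟩
  obtain ⟨hzq, -⟩ := mk_mem_pCore_of_central (hpair P Q) S (z := z') (hS ▸ hzP)
    (fun s hs => Subtype.ext (hzc s (hS ▸ hs : s ∈ (P : Subgroup G).subgroupOf L)))
  refine PNil.map (f := L.subtype) (x := z') (y := b') ?_
  set q := QuotientGroup.mk' (pPrimeCore p L)
  set C : Subgroup L := closure {z', b'}
  refine ⟨pPrimeCore p L ⊓ C, inf_le_right,
    (H10.pPrimeCore_coprime).coprime_dvd_left (card_dvd_of_le inf_le_left), ?_, ?_⟩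
  · refine le_trans ?_ inf_normalizer_le_normalizer_inf
    exact le_inf le_normalizer_of_normal le_normalizer
  · intro g hg
    have hZ : IsPGroup p (zpowers (q b')) := by
      rw [IsPGroup.iff_card, Nat.card_zpowers]
      obtain ⟨i, -, hi⟩ := (Nat.dvd_prime_pow Fact.out).mp
        (orderOf_dvd_of_pow_eq_one (show q b' ^ p ^ j = 1 by
          rw [← map_pow, show b' ^ p ^ j = 1 from Subtype.ext (by simpa using hj), map_one]))
      exact ⟨i, hi⟩
    have hsup := (H10.pCore_isPGroup (G := L ⧸ pPrimeCore p L) (p := p)).to_sup_of_normal_left hZ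
    have hle : C.map q ≤ pCore p (L ⧸ pPrimeCore p L) ⊔ zpowers (q b') := by
      rw [H66.Powell.map_closure_pair, closure_le]
      exact Set.insert_subset_iff.mpr ⟨mem_sup_left hzq,
        Set.singleton_subset_iff.mpr (mem_sup_right (mem_zpowers _))⟩
    obtain ⟨i, hi⟩ := hsup ⟨q g, hle (mem_map_of_mem q hg)⟩
    refine ⟨i, (QuotientGroup.eq_one_iff _).mp ?_, pow_mem hg _⟩
    change q (g ^ p ^ i) = 1
    rw [map_pow]
    simpa using congrArg Subtype.val hi

/-- Two central elements in a common `p`-subgroup commute. -/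
theorem commute_of_central [Finite G] [Fact p.Prime]
    (hpair : ∀ P Q : Sylow p G, IsPSolvable p ↥((P : Subgroup G) ⊔ Q)) {z y : G}
    (hz : IsCentral p z) (hy : IsCentral p y) {S : Subgroup G} (hS : IsPGroup p S) (hzS : z ∈ S)
    (hyS : y ∈ S) : z * y = y * z := by
  obtain ⟨P, hzP, hzc⟩ := hz
  obtain ⟨Q, hyQ, hyc⟩ := hy
  set L := (P : Subgroup G) ⊔ Q with hL
  obtain ⟨SP, hSP⟩ := mem_sylow_subgroupOf P (L := L) le_sup_left
  obtain ⟨SQ, hSQ⟩ := mem_sylow_subgroupOf Q (L := L) le_sup_right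
  set z' : L := ⟨z, mem_sup_left hzP⟩
  set y' : L := ⟨y, mem_sup_right hyQ⟩
  obtain ⟨hzq, -⟩ := mk_mem_pCore_of_central (hpair P Q) SP (z := z') (hSP ▸ hzP)
    (fun s hs => Subtype.ext (hzc s (hSP ▸ hs : s ∈ (P : Subgroup G).subgroupOf L)))
  obtain ⟨-, hyq⟩ := mk_mem_pCore_of_central (hpair P Q) SQ (z := y') (hSQ ▸ hyQ)
    (fun s hs => Subtype.ext (hyc s (hSQ ▸ hs : s ∈ (Q : Subgroup G).subgroupOf L)))
  have hker : ⁅z', y'⁆ ∈ pPrimeCore p L := by
    rw [← QuotientGroup.eq_one_iff]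
    change QuotientGroup.mk' _ ⁅z', y'⁆ = 1
    rw [map_commutatorElement]
    exact commutatorElement_eq_one_iff_mul_comm.mpr (hyq _ hzq)
  have hmemS : ⁅z, y⁆ ∈ S :=
    mul_mem (mul_mem (mul_mem hzS hyS) (inv_mem hzS)) (inv_mem hyS)
  obtain ⟨i, hi⟩ := hS ⟨_, hmemS⟩
  have h1 : ⁅z, y⁆ ^ p ^ i = 1 := by simpa using congrArg Subtype.val hi
  have h0 := congrArg (fun x : pPrimeCore p L => ((x : L) : G))
    (pow_card_eq_one' (x := (⟨_, hker⟩ : pPrimeCore p L)))
  simp only [SubmonoidClass.coe_pow, Subgroup.coe_one] at h0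
  have h2 : ⁅z, y⁆ ^ Nat.card (pPrimeCore p L) = 1 := h0
  have h := (pow_gcd_eq_one (a := ⁅z, y⁆)).mpr ⟨h1, h2⟩
  rw [(Nat.Coprime.pow_left i H10.pPrimeCore_coprime.symm).gcd_eq_one, pow_one] at h
  exact commutatorElement_eq_one_iff_mul_comm.mp h

/-- In a `p`-soluble group a `p`-element all of whose conjugates generate `p`-nilpotent subgroups
with every `p`-element lies in `O_{p',p}`. -/
theorem mk_mem_pCore_of_pNil [Finite G] [Fact p.Prime] (hG : IsPSolvable p G) {z : G}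
    (hzp : ∃ j, z ^ p ^ j = 1)
    (h : ∀ g b : G, (∃ j, b ^ p ^ j = 1) → PNil p (g * z * g⁻¹) b) :
    QuotientGroup.mk' (pPrimeCore p G) z ∈ pCore p (G ⧸ pPrimeCore p G) := by
  set q := QuotientGroup.mk' (pPrimeCore p G)
  have hsurj := QuotientGroup.mk'_surjective (pPrimeCore p G)
  have hdesc : ∀ g b : G ⧸ pPrimeCore p G, (∃ j, b ^ p ^ j = 1) → PNil p (g * q z * g⁻¹) b := by
    rintro g b ⟨j, hj⟩
    obtain ⟨x, rfl⟩ := hsurj g
    obtain ⟨x0, rfl⟩ := hsurj b
    obtain ⟨n, e, hne, hn1⟩ := H66.Powell.exists_pow_sPart (Fact.out : p.Prime) x0 j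
    have h1 : q (x0 ^ n) = q x0 := by
      rw [map_pow]
      exact H66.Powell.pow_eq_self_of_modEq hn1 hj
    rw [← h1, ← map_inv, ← map_mul, ← map_mul]
    exact (h x _ ⟨e, hne⟩).map q
  obtain ⟨j, hj⟩ := hzp
  have hqz : q z ^ p ^ j = 1 := by rw [← map_pow, hj, map_one]
  have hQS := H10.isPSolvable_quotient hG (pPrimeCore p G)
  refine H65.mem_pCore_of_pairs fun g => ?_
  obtain ⟨K, hK1, hKc, hK3, hK4⟩ := hdesc 1 (g * q z * g⁻¹) ⟨j, by rw [conj_pow, hqz]; group⟩
  rw [one_mul, inv_one, mul_one] at hK1 hK3 hK4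
  have hK : K ≤ centralizer (pCore p (G ⧸ pPrimeCore p G) : Set _) := by
    intro k hk
    rw [mem_centralizer_iff]
    intro x hx
    refine (complement_centralizes ⟨j, hqz⟩ ⟨j, by rw [conj_pow, hqz]; group⟩ (fun b hb => ?_)
      (fun b hb => hdesc g b hb) hK1 hKc hK3 hK4 _ H10.pCore_isPGroup
      le_normalizer_of_normal k hk x hx).symm
    simpa using hdesc 1 b hb
  have hKbot : ∀ k ∈ K, k = 1 := by
    intro k hk
    have hkQ := H10.centralizer_pCore_le hQS H10.pPrimeCore_quotient_pPrimeCore (hK hk)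
    obtain ⟨i, hi⟩ := H10.pCore_isPGroup ⟨k, hkQ⟩
    have h1 : k ^ p ^ i = 1 := by simpa using congrArg Subtype.val hi
    have h2 := congrArg Subtype.val (pow_card_eq_one' (x := (⟨k, hk⟩ : K)))
    rw [SubmonoidClass.coe_pow, Subgroup.coe_one] at h2
    have h3 := (pow_gcd_eq_one (a := k)).mpr ⟨h1, h2⟩
    rwa [(Nat.Coprime.pow_left i hKc.symm).gcd_eq_one, pow_one] at h3
  intro x
  obtain ⟨i, hi⟩ := hK4 x x.2
  exact ⟨i, Subtype.ext (by simpa using hKbot _ hi)⟩

/-- The subgroup generated by the conjugates of `z` in a Sylow subgroup. -/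
def wcl (z : G) (P : Sylow p G) : Subgroup G :=
  closure {x : G | IsConj z x ∧ x ∈ (P : Subgroup G)}

theorem wcl_le (z : G) (P : Sylow p G) : wcl z P ≤ (P : Subgroup G) :=
  (closure_le _).mpr fun _ h => h.2

theorem wcl_isPGroup (z : G) (P : Sylow p G) : IsPGroup p (wcl z P) := P.2.to_le (wcl_le z P)

theorem conj_mem_wcl {z x : G} {P : Sylow p G} (h1 : IsConj z x) (h2 : x ∈ (P : Subgroup G)) :
    x ∈ wcl z P :=
  subset_closure ⟨h1, h2⟩

theorem wcl_comm [Finite G] [Fact p.Prime]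
    (hpair : ∀ P Q : Sylow p G, IsPSolvable p ↥((P : Subgroup G) ⊔ Q)) {z : G}
    (hz : IsCentral p z) (P : Sylow p G) :
    ∀ a ∈ wcl z P, ∀ b ∈ wcl z P, a * b = b * a := by
  have hc : ∀ x, IsConj z x → IsCentral p x := by
    intro x hx
    obtain ⟨g, rfl⟩ := isConj_iff.mp hx
    exact hz.conj g
  intro a ha b hb
  have h : wcl z P ≤ centralizer ({x : G | IsConj z x ∧ x ∈ (P : Subgroup G)}) := by
    refine (closure_le _).mpr fun x hx => ?_
    rw [SetLike.mem_coe, mem_centralizer_iff]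
    intro y hy
    exact commute_of_central hpair (hc y hy.1) (hc x hx.1) P.2 hy.2 hx.2
  have h' : wcl z P ≤ centralizer (wcl z P : Set G) := by
    rw [show centralizer (wcl z P : Set G) = centralizer {x : G | IsConj z x ∧ x ∈ (P : Subgroup G)}
      from centralizer_closure _]
    exact h
  exact mem_centralizer_iff.mp (h' hb) a ha

/-- The normaliser of the Sylow subgroup normalises `wcl`. -/
theorem normalizer_le_normalizer_wcl (z : G) (P : Sylow p G) :
    normalizer ((P : Subgroup G) : Set G) ≤ normalizer (wcl z P : Set G) := by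
  intro g hg
  rw [wcl]
  refine normalizer_le_normalizer_closure _ (mem_set_normalizer_iff.mpr fun x => ?_)
  refine and_congr ?_ (mem_set_normalizer_iff.mp hg x)
  exact ⟨fun h => h.trans (isConj_iff.mpr ⟨g, rfl⟩),
    fun h => h.trans (isConj_iff.mpr ⟨g⁻¹, by group⟩)⟩

/-- In a `p`-soluble subgroup containing `wcl z P`, every conjugate of `z` lies in
`O_{p'}(X) wcl z P`. -/
theorem conj_mem_core_sup [Finite G] [Fact p.Prime]
    (hpair : ∀ P Q : Sylow p G, IsPSolvable p ↥((P : Subgroup G) ⊔ Q)) {z : G}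
    (hz : IsCentral p z) (P : Sylow p G) {X : Subgroup G} (hX : IsPSolvable p X)
    (hAX : wcl z P ≤ X) {y : G} (hy : IsConj z y) (hyX : y ∈ X) :
    y ∈ coreIn p X ⊔ wcl z P := by
  have hc : ∀ x, IsConj z x → IsCentral p x := by
    intro x hx
    obtain ⟨g, rfl⟩ := isConj_iff.mp hx
    exact hz.conj g
  set M := pPrimePCore p X
  have hM : ∀ x : X, IsConj z (x : G) → x ∈ M := by
    intro x hx
    refine mk_mem_pCore_of_pNil hX ?_ fun g b hb => ?_
    · obtain ⟨j, hj⟩ := (hc _ hx).exists_pow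
      exact ⟨j, Subtype.ext (by simpa using hj)⟩
    · refine PNil.of_injective (f := X.subtype) X.subtype_injective ?_
      obtain ⟨j, hj⟩ := hb
      refine pNil_of_central hpair ?_ ⟨j, by simpa using congrArg Subtype.val hj⟩
      simpa using (hc _ hx).conj (g : G)
  have hAM : (wcl z P).subgroupOf X ≤ M := by
    intro x hx
    have h : wcl z P ≤ M.map X.subtype := by
      refine (closure_le _).mpr fun w hw => ?_
      exact ⟨⟨w, hAX (subset_closure hw)⟩, hM _ hw.1, rfl⟩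
    obtain ⟨x', hx', he⟩ := h hx
    exact (Subtype.ext he : x' = x) ▸ hx'
  obtain ⟨S, hS⟩ := (((wcl_isPGroup z P).comap_of_injective X.subtype X.subtype_injective
    ).comap_of_injective M.subtype M.subtype_injective).exists_le_sylow
  -- `y` is conjugate within `O_{p'}(X)` into `S`
  set y' : X := ⟨y, hyX⟩
  have hy'M : y' ∈ M := hM y' hy
  obtain ⟨jy, hjy⟩ := (hc y hy).exists_pow
  have hyp : IsPGroup p (zpowers (⟨y', hy'M⟩ : M)) := by
    rw [IsPGroup.iff_card, Nat.card_zpowers]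
    obtain ⟨i, -, hi⟩ := (Nat.dvd_prime_pow Fact.out).mp
      (orderOf_dvd_of_pow_eq_one (show (⟨y', hy'M⟩ : M) ^ p ^ jy = 1 from
        Subtype.ext (Subtype.ext (by simpa using hjy))))
    exact ⟨i, hi⟩
  obtain ⟨T, hT⟩ := hyp.exists_le_sylow
  obtain ⟨m, rfl⟩ := MulAction.exists_smul_eq M S T
  -- `m = k s`
  have hmap := H10.map_sylow_pPrimePCore S
  have hmq : QuotientGroup.mk' (pPrimeCore p X) (m : X) ∈ pCore p (X ⧸ pPrimeCore p X) := m.2
  rw [← hmap] at hmq
  obtain ⟨_, ⟨s, hs, rfl⟩, hsm⟩ := hmq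
  set k : X := (m : X) * (s : X)⁻¹ with hk
  have hkK : k ∈ pPrimeCore p X := by
    rw [← QuotientGroup.eq_one_iff]
    change QuotientGroup.mk' _ k = 1
    rw [hk, map_mul, map_inv, ← coe_subtype, hsm]
    exact mul_inv_cancel _
  have hyT : (⟨y', hy'M⟩ : M) ∈ ((m • S : Sylow p M) : Subgroup M) := hT (mem_zpowers _)
  rw [Sylow.smul_def, Sylow.pointwise_smul_def] at hyT
  obtain ⟨t, ht, hte⟩ := hyT
  have hte' : (m : X) * (t : X) * (m : X)⁻¹ = y' := congrArg Subtype.val hte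
  set u : M := s * t * s⁻¹
  have hu : u ∈ (S : Subgroup M) := mul_mem (mul_mem hs ht) (inv_mem hs)
  have hyu : y' = k * (u : X) * k⁻¹ := by
    rw [← hte', hk]
    simp only [u, Subgroup.coe_mul, Subgroup.coe_inv]
    group
  have hyuG : y = (k : G) * ((u : X) : G) * (k : G)⁻¹ := by
    have := congrArg Subtype.val hyu
    simpa using this
  have hzu : IsConj z ((u : X) : G) :=
    hy.trans (isConj_iff.mpr ⟨(k : G)⁻¹, by rw [hyuG]; group⟩)
  -- the conjugates of `z` in a Sylow subgroup containing `S` lie in `wcl z P`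
  obtain ⟨R, hR⟩ := ((S.2.map M.subtype).map X.subtype).exists_le_sylow
  have hAR : ∀ w, IsConj z w → w ∈ (P : Subgroup G) → w ∈ (R : Subgroup G) := by
    intro w hw hwP
    have hwX : w ∈ X := hAX (conj_mem_wcl hw hwP)
    have hwA : (⟨w, hwX⟩ : X) ∈ (wcl z P).subgroupOf X := conj_mem_wcl hw hwP
    exact hR ⟨⟨w, hwX⟩, ⟨⟨_, hAM hwA⟩, hS hwA, rfl⟩, rfl⟩
  have hset : ({x | IsConj z x} ∩ ((P : Subgroup G) : Set G)) =
      {x | IsConj z x} ∩ ((R : Subgroup G) : Set G) := by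
    refine Set.eq_of_subset_of_ncard_le (fun w hw => ⟨hw.1, hAR w hw.1 hw.2⟩) ?_ (Set.toFinite _)
    exact (H65.ncard_inter_sylow (fun g x hx => hx.trans (isConj_iff.mpr ⟨g, rfl⟩)) R P).le
  have huA : ((u : X) : G) ∈ wcl z P := by
    refine conj_mem_wcl hzu ?_
    have h : ((u : X) : G) ∈ {x | IsConj z x} ∩ ((R : Subgroup G) : Set G) :=
      ⟨hzu, hR ⟨(u : X), ⟨u, hu, rfl⟩, rfl⟩⟩
    rw [← hset] at h
    exact h.2
  have hkc : (k : G) ∈ coreIn p X := ⟨k, hkK, rfl⟩
  rw [hyuG]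
  exact mul_mem (mul_mem (mem_sup_left hkc) (mem_sup_right huA)) (mem_sup_left (inv_mem hkc))

/-- In a `p`-soluble subgroup containing `wcl z P` and a conjugate, the conjugate lies in
`O_{p'}(X) wcl z P`. -/
theorem cj_wcl_le [Finite G] [Fact p.Prime]
    (hpair : ∀ P Q : Sylow p G, IsPSolvable p ↥((P : Subgroup G) ⊔ Q)) {z : G}
    (hz : IsCentral p z) (P : Sylow p G) {X : Subgroup G} (hX : IsPSolvable p X)
    (hAX : wcl z P ≤ X) {g : G} (hg : cj g (wcl z P) ≤ X) :
    cj g (wcl z P) ≤ coreIn p X ⊔ wcl z P := by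
  intro x hx
  obtain ⟨a, ha, rfl⟩ := hx
  have h : wcl z P ≤ (coreIn p X ⊔ wcl z P).comap (MulAut.conj g).toMonoidHom := by
    refine (closure_le _).mpr fun w hw => ?_
    exact conj_mem_core_sup hpair hz P hX hAX (hw.1.trans (isConj_iff.mpr ⟨g, rfl⟩))
      (hg ⟨w, subset_closure hw, rfl⟩)
  exact h ha

end H66.PairGen
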