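import Cfsg.Agent.H66.PairGen.Moments
import Cfsg.Agent.H11.ColumnsNormalizer

/-!
The three moments of the values on `A` over the principal block, and the resulting bounds.
-/

set_option autoImplicit false
set_option linter.style.haveILetI false
set_option linter.unusedSectionVars false

open Subgroup Cfsg
open scoped commutatorElement ComplexConjugate

namespace H66.PairGen

open H70 H31.EXO

universe u

variable {G : Type u} [Group G] [Fintype G] {p : ℕ} [Fact p.Prime] {M : Ideal AlgInt} [M.IsPrime]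
  {z : G} {P : Sylow p G} [Fintype (wcl z P)]

namespace Setup

variable (S : Setup p z P)

/-- The multiplicity of the trivial character of `A`. -/
noncomputable def mult (χ : IrrCharacter G) (P : Sylow p G) (z : G) [Fintype (wcl z P)] : ℕ :=
  (H68.EC.exists_sum_eq_card_mul (H12.isCharacter_irr χ) (wcl z P)).choose

omit [M.IsPrime] in
theorem sA_eq (χ : IrrCharacter G) :
    sA χ P z = (Nat.card (wcl z P) : ℂ) * (mult χ P z : ℂ) :=
  (H68.EC.exists_sum_eq_card_mul (H12.isCharacter_irr χ) (wcl z P)).choose_spec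

/-- `|A| m - d`: the sum of the character over the nontrivial elements of `A`. -/
noncomputable def tVal (χ : IrrCharacter G) (P : Sylow p G) (z : G) [Fintype (wcl z P)] : ℝ :=
  (Nat.card (wcl z P) : ℝ) * (mult χ P z : ℝ) - (H12.degree (χ : G → ℂ) : ℝ)

/-- `|A| m / d`. -/
noncomputable def rVal (χ : IrrCharacter G) (P : Sylow p G) (z : G) [Fintype (wcl z P)] : ℝ :=
  (Nat.card (wcl z P) : ℝ) * (mult χ P z : ℝ) / (H12.degree (χ : G → ℂ) : ℝ)

omit [M.IsPrime] in
theorem sum_erase_one (χ : IrrCharacter G) [DecidableEq (wcl z P)] :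
    ∑ v ∈ Finset.univ.erase (1 : wcl z P), (χ : G → ℂ) v = (tVal χ P z : ℂ) := by
  rw [Finset.sum_erase_eq_sub (Finset.mem_univ _)]
  have h := sA_eq (P := P) (z := z) χ
  rw [sA] at h
  rw [h, OneMemClass.coe_one, H12.irr_apply_one, tVal]
  push_cast
  ring

include S

omit [M.IsPrime] in
theorem two_le_card : 2 ≤ Nat.card (wcl z P) := by
  have : Nontrivial (wcl z P) := ⟨⟨z, S.mem_wcl⟩, 1, fun h => S.ne_one (congrArg Subtype.val h)⟩
  exact Finite.one_lt_card

theorem R0_eq_R0 (hM : IsPModular p M)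
    (hinter : (P : Subgroup G) ⊓ centralizer (wcl z P : Set G) ≤ wcl z P) {v b : G}
    (hv : v ∈ wcl z P) (hv1 : v ≠ 1) (hb : b ∈ wcl z P) (hb1 : b ≠ 1) :
    R0 S M v = R0 S M b := by
  rw [← S.pair_equation hM hinter hv hv1 hb, ← S.pair_equation hM hinter hb hb1 hv]
  exact Finset.sum_congr rfl fun χ _ => by ring

open Classical in
/-- The value of `R0` at `z⁻¹`. -/
theorem R0_eq (hM : IsPModular p M) :
    R0 S M z⁻¹ = (((Finset.univ.filter fun k : wcl z P => IsConj z (k : G)).card * cz M z : ℕ) : ℂ) := by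
  have hord : ∀ x ∈ wcl z P, ∃ i : ℕ, orderOf x = p ^ i := fun x hx => by
    obtain ⟨j, hj⟩ := S.mem_pElement (wcl_le z P hx)
    obtain ⟨i, -, hi⟩ := (Nat.dvd_prime_pow Fact.out).mp (orderOf_dvd_of_pow_eq_one hj)
    exact ⟨i, hi⟩
  have h : ∀ k : wcl z P, ∑ χ ∈ H22.blockFinset (principalBlock M G),
      (χ : G → ℂ) z⁻¹ * (χ : G → ℂ) k = if IsConj z (k : G) then (cz M z : ℂ) else 0 := fun k => by
    have h := H11.column_pair hM (u := z) (v := (k : G)) (hord z S.mem_wcl) (hord k k.2)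
    rw [H22.finsum_mem_block] at h
    refine Eq.trans (Finset.sum_congr rfl fun χ _ => ?_) h
    rw [H12.irr_inv, mul_comm]
  rw [R0, Finset.sum_congr rfl fun k _ => h k, ← Finset.sum_filter, Finset.sum_const, nsmul_eq_mul,
    Nat.cast_mul]

theorem sylow_card_le_cz (hM : IsPModular p M) : Nat.card (P : Subgroup G) ≤ cz M z := by
  haveI : Fintype ↥(centralizer ({z} : Set G)) := Fintype.ofFinite _
  have hle : (P : Subgroup G) ≤ centralizer ({z} : Set G) := fun x hx =>
    mem_centralizer_singleton_iff.mpr (S.central x hx)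
  have h := card_le_sum_sq hM ((P : Subgroup G).subgroupOf (centralizer {z}))
    (P.2.of_equiv (subgroupOfEquivOfLe hle).symm)
  rwa [Nat.card_congr (subgroupOfEquivOfLe hle).toEquiv] at h

/-- `∑ T d = 0`. -/
theorem sum_t_mul_degree (hM : IsPModular p M) :
    ∑ χ ∈ H22.blockFinset (principalBlock M G),
      tVal χ P z * (H12.degree (χ : G → ℂ) : ℝ) = 0 := by
  classical
  apply Complex.ofReal_injective
  push_cast
  simp only [← sum_erase_one, Finset.sum_mul]
  rw [Finset.sum_comm]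
  refine Finset.sum_eq_zero fun v hv => ?_
  refine Eq.trans (Finset.sum_congr rfl fun χ _ => ?_)
    (weak_at hM (x := 1) ?_ (S.mem_pElement (wcl_le z P v.2)) fun h => ?_)
  · rw [H12.irr_apply_one, mul_comm]
  · rw [orderOf_one]; exact (Fact.out : p.Prime).not_dvd_one
  · exact Finset.ne_of_mem_erase hv (Subtype.ext h)

open Classical in
/-- The three moments, as real numbers, in terms of the constant value `R` of `R0`. -/
theorem moments (hM : IsPModular p M)
    (hinter : (P : Subgroup G) ⊓ centralizer (wcl z P : Set G) ≤ wcl z P) :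
    let R : ℝ := ((Finset.univ.filter fun k : wcl z P => IsConj z (k : G)).card * cz M z : ℕ)
    (∑ χ ∈ H22.blockFinset (principalBlock M G), tVal χ P z ^ 2 =
        ((Nat.card (wcl z P) : ℝ) - 1) * R) ∧
      (∑ χ ∈ H22.blockFinset (principalBlock M G), tVal χ P z ^ 2 * rVal χ P z =
        ((Nat.card (wcl z P) : ℝ) - 1) ^ 2 * R) ∧
      ((∀ g h : G, wcl z P ⊔ cj g (wcl z P) ⊔ cj h (wcl z P) ≠ ⊤) →
        ∑ χ ∈ H22.blockFinset (principalBlock M G), tVal χ P z ^ 2 * rVal χ P z ^ 2 =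
          (Nat.card (wcl z P) : ℝ) * ((Nat.card (wcl z P) : ℝ) - 1) ^ 2 * R) := by
  intro R
  have hR : ∀ v ∈ Finset.univ.erase (1 : wcl z P), R0 S M (v : G) = (R : ℂ) := by
    intro v hv
    rw [S.R0_eq_R0 hM hinter v.2 (fun h => Finset.ne_of_mem_erase hv (Subtype.ext h))
      (inv_mem S.mem_wcl) (by simpa using S.ne_one), S.R0_eq hM]
    simp only [R]
    push_cast
    rfl
  have hcard : ((Finset.univ.erase (1 : wcl z P)).card : ℂ) = (Nat.card (wcl z P) : ℂ) - 1 := by
    rw [Finset.card_erase_of_mem (Finset.mem_univ _), Finset.card_univ, ← Nat.card_eq_fintype_card,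
      Nat.cast_sub (by have := S.two_le_card; omega), Nat.cast_one]
  have hr : ∀ χ : IrrCharacter G, (rVal χ P z : ℂ) = sA χ P z / (χ : G → ℂ) 1 := fun χ => by
    rw [sA_eq, H12.irr_apply_one, rVal]; push_cast; rfl
  refine ⟨?_, ?_, fun hall => ?_⟩
  · have h2 : ∑ χ ∈ H22.blockFinset (principalBlock M G),
        tVal χ P z * ((Nat.card (wcl z P) : ℝ) * (mult χ P z : ℝ)) =
        ((Nat.card (wcl z P) : ℝ) - 1) * R := by
      apply Complex.ofReal_injective
      push_cast
      rw [← hcard, ← nsmul_eq_mul, ← Finset.sum_const, ← Finset.sum_congr rfl hR]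
      simp only [R0, ← sA_eq, sA, ← sum_erase_one, Finset.sum_mul, Finset.mul_sum]
      rw [Finset.sum_comm]
      rw [Finset.sum_congr rfl fun y _ => Finset.sum_comm]
      exact Finset.sum_comm
    rw [← h2, ← sub_zero (∑ χ ∈ _, tVal χ P z * _), ← S.sum_t_mul_degree hM, ← Finset.sum_sub_distrib]
    exact Finset.sum_congr rfl fun χ _ => by simp only [tVal]; ring
  · apply Complex.ofReal_injective
    push_cast
    simp only [hr, ← sum_erase_one, pow_two, Finset.sum_mul, Finset.mul_sum]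
    rw [← hcard, mul_assoc, ← nsmul_eq_mul, ← Finset.sum_const, ← nsmul_eq_mul, ← Finset.sum_const]
    rw [Finset.sum_comm]
    refine Finset.sum_congr rfl fun b hb => ?_
    rw [Finset.sum_comm]
    refine Finset.sum_congr rfl fun v hv => ?_
    rw [← hR v hv, ← S.pair_equation hM hinter v.2
      (fun h => Finset.ne_of_mem_erase hv (Subtype.ext h)) b.2]
    exact Finset.sum_congr rfl fun χ _ => by ring
  · apply Complex.ofReal_injective
    push_cast
    simp only [hr]
    simp only [← sum_erase_one]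
    rw [Finset.sum_congr rfl fun (χ : IrrCharacter G) _ => show
      (∑ v ∈ Finset.univ.erase (1 : wcl z P), (χ : G → ℂ) v) ^ 2 * (sA χ P z / (χ : G → ℂ) 1) ^ 2 =
        ∑ b ∈ Finset.univ.erase (1 : wcl z P), ∑ v ∈ Finset.univ.erase (1 : wcl z P),
          (χ : G → ℂ) v * (χ : G → ℂ) b * (sA χ P z / (χ : G → ℂ) 1) ^ 2 by
        rw [pow_two (∑ v ∈ _, _), Finset.sum_mul_sum, Finset.sum_comm]
        simp only [Finset.sum_mul]]
    rw [Finset.sum_comm]
    rw [Finset.sum_congr rfl fun b hb => Finset.sum_comm.trans (Finset.sum_congr rfl fun v hv =>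
      (S.triple_equation hM hinter hall v.2
        (fun h => Finset.ne_of_mem_erase hv (Subtype.ext h)) b.2).trans
        (by rw [hR v hv]))]
    simp only [Finset.sum_const, nsmul_eq_mul, hcard]
    ring

omit [M.IsPrime] in
theorem rVal_nonneg (χ : IrrCharacter G) : 0 ≤ rVal χ P z := by
  rw [rVal]; positivity

omit [M.IsPrime] in
theorem rVal_lt {χ : IrrCharacter G} (hne : χ ≠ H12.oneIrr G) :
    rVal χ P z < (Nat.card (wcl z P) : ℝ) := by
  have hd : (0 : ℝ) < (H12.degree (χ : G → ℂ) : ℝ) := Nat.cast_pos.2 (H12.irr_degree_pos χ)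
  rw [rVal, div_lt_iff₀ hd]
  refine mul_lt_mul_of_pos_left ?_ (Nat.cast_pos.2 Nat.card_pos)
  refine Nat.cast_lt.2 (lt_of_le_of_ne ?_ fun h => hne (S.eq_oneIrr_of_sA_eq ?_))
  · have hle : ((Nat.card (wcl z P) : ℂ) * (mult χ P z : ℂ)).re ≤
        (Nat.card (wcl z P) : ℝ) * (H12.degree (χ : G → ℂ) : ℝ) := by
      rw [← sA_eq, sA, Complex.re_sum]
      refine (Finset.sum_le_sum fun a _ => (Complex.re_le_norm _).trans
        (H12.IsCharacter.norm_le (H12.isCharacter_irr χ) _)).trans ?_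
      rw [Finset.sum_const, Finset.card_univ, nsmul_eq_mul, ← Nat.card_eq_fintype_card]
    rw [← Nat.cast_mul, Complex.natCast_re, Nat.cast_mul] at hle
    exact Nat.cast_le.1 (le_of_mul_le_mul_left hle (Nat.cast_pos.2 Nat.card_pos))
  · rw [sA_eq, h, H12.irr_apply_one]

omit [M.IsPrime] in
theorem rVal_le {g h : G} (htop : wcl z P ⊔ cj g (wcl z P) ⊔ cj h (wcl z P) = ⊤)
    {χ : IrrCharacter G} (hne : χ ≠ H12.oneIrr G) :
    3 * rVal χ P z ≤ 2 * (Nat.card (wcl z P) : ℝ) := by
  obtain ⟨n, hn, hn3⟩ := H68.EC.exists_fixed_dim χ hne (wcl z P) htop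
  have hmn : mult χ P z = n := by
    have h1 := (sA_eq (P := P) (z := z) χ).symm.trans (show sA χ P z = _ from hn)
    exact_mod_cast mul_left_cancel₀ (Nat.cast_ne_zero.2 (Nat.card_pos (α := wcl z P)).ne') h1
  have hd : (0 : ℝ) < (H12.degree (χ : G → ℂ) : ℝ) := Nat.cast_pos.2 (H12.irr_degree_pos χ)
  rw [rVal, ← mul_div_assoc, div_le_iff₀ hd, hmn]
  have : (3 : ℝ) * (n : ℝ) ≤ 2 * (H12.degree (χ : G → ℂ) : ℝ) := by exact_mod_cast hn3
  have hq : (0 : ℝ) ≤ (Nat.card (wcl z P) : ℝ) := Nat.cast_nonneg _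
  nlinarith

omit [M.IsPrime] in
theorem tVal_oneIrr : tVal (H12.oneIrr G) P z = (Nat.card (wcl z P) : ℝ) - 1 ∧
    rVal (H12.oneIrr G) P z = (Nat.card (wcl z P) : ℝ) ∧
    (H12.degree (H12.oneIrr G : G → ℂ) : ℝ) = 1 := by
  have hd : (H12.degree (H12.oneIrr G : G → ℂ) : ℂ) = 1 := by
    rw [← H12.irr_apply_one, H12.oneIrr_apply]
  have hd' : H12.degree (H12.oneIrr G : G → ℂ) = 1 := by exact_mod_cast hd
  have hm : mult (H12.oneIrr G) P z = 1 := by
    have h := (sA_eq (P := P) (z := z) (H12.oneIrr G)).symm.trans S.sA_oneIrr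
    have h2 : (mult (H12.oneIrr G) P z : ℂ) = 1 := by
      refine mul_left_cancel₀ (Nat.cast_ne_zero.2 (Nat.card_pos (α := wcl z P)).ne') ?_
      rw [mul_one]; exact h
    exact_mod_cast h2
  simp [tVal, rVal, hd', hm]

open Classical in
/-- The count: either `R = |A|`, or `R (|A| - 3) < |A| (|A| - 1)`. -/
theorem count_bound (hM : IsPModular p M)
    (hinter : (P : Subgroup G) ⊓ centralizer (wcl z P : Set G) ≤ wcl z P) :
    let R : ℕ := (Finset.univ.filter fun k : wcl z P => IsConj z (k : G)).card * cz M z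
    R = Nat.card (wcl z P) ∨
      (R : ℝ) * ((Nat.card (wcl z P) : ℝ) - 3) <
        (Nat.card (wcl z P) : ℝ) * ((Nat.card (wcl z P) : ℝ) - 1) := by
  intro R
  obtain ⟨h0, h1, h2⟩ := S.moments hM hinter
  set B := H22.blockFinset (principalBlock M G) with hB
  set q : ℝ := (Nat.card (wcl z P) : ℝ) with hq
  have hq2 : 2 ≤ q := by rw [hq]; exact_mod_cast S.two_le_card
  obtain ⟨t1, r1, d1⟩ := S.tVal_oneIrr
  have hone : H12.oneIrr G ∈ B := H22.mem_blockFinset.2 (H20.mem_blockOf_self (H12.oneIrr G))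
  by_cases hall : ∀ g h : G, wcl z P ⊔ cj g (wcl z P) ⊔ cj h (wcl z P) ≠ ⊤
  · left
    have h3 : ∑ χ ∈ B, tVal χ P z ^ 2 * rVal χ P z * (q - rVal χ P z) = 0 := by
      rw [show (0 : ℝ) = q * ((q - 1) ^ 2 * (R : ℝ)) - q * (q - 1) ^ 2 * (R : ℝ) by ring, ← h1,
        ← h2 hall, Finset.mul_sum, ← Finset.sum_sub_distrib]
      exact Finset.sum_congr rfl fun χ _ => by ring
    have hle : ∀ χ : IrrCharacter G, rVal χ P z ≤ q := fun χ => by
      by_cases hne : χ = H12.oneIrr G
      · rw [hne, r1]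
      · exact (S.rVal_lt hne).le
    have hnn : ∀ χ ∈ B, 0 ≤ tVal χ P z ^ 2 * rVal χ P z * (q - rVal χ P z) := fun χ _ =>
      mul_nonneg (mul_nonneg (sq_nonneg _) (S.rVal_nonneg χ)) (sub_nonneg.2 (hle χ))
    have hz := (Finset.sum_eq_zero_iff_of_nonneg hnn).1 h3
    rw [Finset.sum_eq_single_of_mem (H12.oneIrr G) hone fun χ hχ hne =>
      (mul_eq_zero.1 (hz χ hχ)).resolve_right (sub_pos.2 (S.rVal_lt hne)).ne'] at h1
    rw [t1, r1] at h1
    have hpos : (0 : ℝ) < (q - 1) ^ 2 := by nlinarith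
    exact Nat.cast_injective (R := ℝ) (mul_left_cancel₀ hpos.ne' h1).symm
  · right
    push Not at hall
    obtain ⟨g, h, htop⟩ := hall
    have hneg : ∃ χ ∈ B.erase (H12.oneIrr G), tVal χ P z < 0 := by
      by_contra hn
      push Not at hn
      have h4 := S.sum_t_mul_degree hM
      rw [← Finset.add_sum_erase _ _ hone, t1, d1] at h4
      have h5 : 0 ≤ ∑ χ ∈ B.erase (H12.oneIrr G), tVal χ P z * (H12.degree (χ : G → ℂ) : ℝ) :=
        Finset.sum_nonneg fun χ hχ => mul_nonneg (hn χ hχ) (Nat.cast_nonneg _)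
      linarith
    have hlt : ∑ χ ∈ B.erase (H12.oneIrr G), 3 * (tVal χ P z ^ 2 * rVal χ P z) <
        ∑ χ ∈ B.erase (H12.oneIrr G), 2 * q * tVal χ P z ^ 2 := by
      refine Finset.sum_lt_sum (fun χ hχ => ?_) ?_
      · have := mul_le_mul_of_nonneg_left (S.rVal_le htop (Finset.ne_of_mem_erase hχ))
          (sq_nonneg (tVal χ P z))
        linarith
      · obtain ⟨χ, hχ, hneg⟩ := hneg
        refine ⟨χ, hχ, ?_⟩
        have hd : (0 : ℝ) < (H12.degree (χ : G → ℂ) : ℝ) := Nat.cast_pos.2 (H12.irr_degree_pos χ)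
        have hr : rVal χ P z < 1 := by
          rw [rVal, div_lt_one hd]
          simp only [tVal] at hneg
          linarith
        have ht : 0 < tVal χ P z ^ 2 := by nlinarith
        nlinarith
    rw [← Finset.mul_sum, ← Finset.mul_sum, Finset.sum_erase_eq_sub hone,
      Finset.sum_erase_eq_sub hone, h1, h0, t1, r1] at hlt
    nlinarith

end Setup

end H66.PairGen
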