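import Cfsg.Agent.H66.PairGen.Count
import Cfsg.Agent.H22.SectionOrth

/-!
A finite group in which any two Sylow `p`-subgroups generate a `p`-soluble subgroup is
`p`-soluble.
-/

set_option autoImplicit false
set_option linter.style.haveILetI false
set_option linter.unusedSectionVars false

open Subgroup Cfsg
open scoped commutatorElement ComplexConjugate

namespace H66.PairGen

open H70 H31.EXO

universe u

variable {G : Type u} [Group G] {p : ℕ}

namespace Setup

variable {z : G} {P : Sylow p G} (S : Setup p z P)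
include S

theorem dvd_card_wcl [Finite G] [Fact p.Prime] : p ∣ Nat.card (wcl z P) := by
  have h := (zpowers_le.mpr S.mem_wcl : zpowers z ≤ wcl z P)
  have h2 := card_dvd_of_le h
  rwa [Nat.card_zpowers, orderOf_eq_prime S.pow_eq S.ne_one] at h2

theorem sylow_eq_of_zpowers [Finite G] [Fact p.Prime]
    (hinter : (P : Subgroup G) ⊓ centralizer (wcl z P : Set G) ≤ wcl z P)
    (hA : wcl z P = zpowers z) : (P : Subgroup G) = wcl z P := by
  refine le_antisymm (fun x hx => hinter (mem_inf.mpr ⟨hx, ?_⟩)) (wcl_le z P)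
  rw [hA, mem_centralizer_iff]
  intro a ha
  obtain ⟨i, rfl⟩ := mem_zpowers_iff.mp ha
  exact ((show Commute x z from S.central x hx).zpow_right i).eq.symm

open Classical in
theorem two_le_conj [Fintype G] [Fact p.Prime] [Fintype (wcl z P)]
    (hinter : (P : Subgroup G) ⊓ centralizer (wcl z P : Set G) ≤ wcl z P) :
    2 ≤ (Finset.univ.filter fun k : wcl z P => IsConj z (k : G)).card := by
  by_contra hlt
  have hz : (⟨z, S.mem_wcl⟩ : wcl z P) ∈ Finset.univ.filter fun k : wcl z P => IsConj z (k : G) :=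
    Finset.mem_filter.2 ⟨Finset.mem_univ _, IsConj.refl z⟩
  have hone : ∀ k ∈ wcl z P, IsConj z k → k = z := fun k hk hc =>
    congrArg Subtype.val ((Finset.card_le_one.1 (by omega)) ⟨k, hk⟩
      (Finset.mem_filter.2 ⟨Finset.mem_univ _, hc⟩) _ hz)
  have hA : wcl z P = zpowers z := by
    refine le_antisymm ((closure_le _).mpr fun x hx => ?_) (zpowers_le.mpr S.mem_wcl)
    rw [SetLike.mem_coe, hone x (conj_mem_wcl hx.1 hx.2) hx.1]
    exact mem_zpowers z
  have hP := S.sylow_eq_of_zpowers hinter hA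
  have hburn : normalizer ((P : Subgroup G) : Set G) ≤ centralizer ((P : Subgroup G) : Set G) := by
    intro n hn
    have h1 : n * z * n⁻¹ = z := hone _
      (conj_mem_wcl (isConj_iff.mpr ⟨n, rfl⟩) ((mem_set_normalizer_iff.mp hn z).mp S.mem))
      (isConj_iff.mpr ⟨n, rfl⟩)
    rw [mem_centralizer_iff]
    intro a ha
    rw [hP, hA] at ha
    obtain ⟨i, rfl⟩ := mem_zpowers_iff.mp ha
    exact ((show Commute n z from mul_inv_eq_iff_eq_mul.1 h1).zpow_right i).eq.symm
  have hcomp := MonoidHom.ker_transferSylow_isComplement' P hburn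
  rcases S.simple.eq_bot_or_eq_top_of_normal (MonoidHom.transferSylow P hburn).ker inferInstance
    with h | h
  · rw [h, isComplement'_bot_left] at hcomp
    have hG : IsPGroup p G := (hcomp ▸ P.2 : IsPGroup p (⊤ : Subgroup G)).of_equiv Subgroup.topEquiv
    haveI : Group.IsNilpotent G := hG.isNilpotent
    exact S.notPSolvable H10.isPSolvable_of_isSolvable
  · rw [h, isComplement'_top_left] at hcomp
    have hz := S.mem
    rw [hcomp, mem_bot] at hz
    exact S.ne_one hz

theorem false_of_card_four [Fintype G] [Fact p.Prime] {z' : G}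
    (hp2 : p = 2) (hPA : (P : Subgroup G) = wcl z P) (hz' : z' ∈ wcl z P) (hconj : IsConj z z')
    (hne : z' ≠ z) (hall : ∀ k ∈ wcl z P, IsConj z k → k = z ∨ k = z') : False := by
  subst hp2
  obtain ⟨g, hg⟩ := isConj_iff.1 hconj
  have hzc : ∀ x ∈ wcl z P, x ∈ centralizer ((P : Subgroup G) : Set G) := fun x hx =>
    mem_centralizer_iff.mpr fun y hy => S.comm y (hPA ▸ hy) x hx
  obtain ⟨n, hn, he⟩ := P.conj_eq_normalizer_conj_of_mem_centralizer z g⁻¹ (hzc z S.mem_wcl)
    (by rw [inv_inv, hg]; exact hzc z' hz')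
  rw [inv_inv, hg] at he
  set h := n⁻¹ with hh
  have h1 : h * z * h⁻¹ = z' := by rw [hh, inv_inv]; exact he.symm
  have hhN : h ∈ normalizer ((P : Subgroup G) : Set G) := inv_mem hn
  have h2 : h * z' * h⁻¹ = z := by
    have hm : h * z' * h⁻¹ ∈ wcl z P := by
      rw [← hPA]; exact (mem_set_normalizer_iff.mp hhN z').mp (hPA ▸ hz')
    refine (hall _ hm (hconj.trans (isConj_iff.2 ⟨h, rfl⟩))).resolve_right fun e => hne ?_
    exact mul_left_cancel (mul_right_cancel (e.trans h1.symm))
  have heven : ∀ i : ℕ, h ^ (2 * i) * z * (h ^ (2 * i))⁻¹ = z := by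
    intro i
    induction i with
    | zero => simp
    | succ i ih =>
      calc h ^ (2 * (i + 1)) * z * (h ^ (2 * (i + 1)))⁻¹
          = h * (h * (h ^ (2 * i) * z * (h ^ (2 * i))⁻¹) * h⁻¹) * h⁻¹ := by
            rw [show 2 * (i + 1) = 2 * i + 1 + 1 by ring, pow_succ', pow_succ']; group
        _ = z := by rw [ih, h1, h2]
  obtain ⟨a, r, hr, hord⟩ := Nat.exists_eq_pow_mul_and_not_dvd (orderOf_pos h).ne' 2 (by norm_num)
  obtain ⟨i, rfl⟩ : ∃ i, r = 2 * i + 1 := ⟨r / 2, by omega⟩
  set u := h ^ (2 * i + 1) with hu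
  have hup : IsPGroup 2 (zpowers u) := by
    rw [IsPGroup.iff_card, Nat.card_zpowers]
    obtain ⟨j, -, hj⟩ := (Nat.dvd_prime_pow Nat.prime_two).mp
      (orderOf_dvd_of_pow_eq_one (show u ^ 2 ^ a = 1 by
        rw [hu, ← pow_mul, mul_comm, ← hord, pow_orderOf_eq_one]))
    exact ⟨j, hj⟩
  have huP : u ∈ (P : Subgroup G) := by
    have h3 : u ∈ zpowers u ⊓ normalizer ((P : Subgroup G) : Set G) :=
      ⟨mem_zpowers u, pow_mem hhN _⟩
    have e : zpowers u ⊓ normalizer ((P : Subgroup G) : Set G) = zpowers u ⊓ (P : Subgroup G) :=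
      hup.inf_normalizer_sylow P
    rw [e] at h3
    exact h3.2
  apply hne
  calc z' = h * (h ^ (2 * i) * z * (h ^ (2 * i))⁻¹) * h⁻¹ := by rw [heven, h1]
    _ = u * z * u⁻¹ := by rw [hu, pow_succ']; group
    _ = z := by rw [S.central u huP, mul_inv_cancel_right]

open Classical in
theorem false_of_card_three [Fintype G] [Fact p.Prime] {M : Ideal AlgInt} [M.IsPrime]
    [Fintype (wcl z P)] (hM : IsPModular p M)
    (hinter : (P : Subgroup G) ⊓ centralizer (wcl z P : Set G) ≤ wcl z P)
    (hq : Nat.card (wcl z P) = 3)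
    (hn : (Finset.univ.filter fun k : wcl z P => IsConj z (k : G)).card = 2) : False := by
  have hp3 : p = 3 := (Nat.prime_dvd_prime_iff_eq Fact.out Nat.prime_three).mp (hq ▸ S.dvd_card_wcl)
  have hA : wcl z P = zpowers z := (eq_of_le_of_card_ge (zpowers_le.mpr S.mem_wcl) (by
    rw [Nat.card_zpowers, orderOf_eq_prime S.pow_eq S.ne_one, hq, hp3])).symm
  have hP := S.sylow_eq_of_zpowers hinter hA
  set a : wcl z P := ⟨z, S.mem_wcl⟩ with ha
  have hz2 : z⁻¹ ≠ z := fun h => by
    have h2 : orderOf z ∣ 2 := orderOf_dvd_of_pow_eq_one (by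
      rw [pow_two]; nth_rewrite 1 [← h]; exact inv_mul_cancel z)
    rw [orderOf_eq_prime S.pow_eq S.ne_one, hp3] at h2
    norm_num at h2
  have hne : a⁻¹ ≠ a := fun h => hz2 (congrArg Subtype.val h)
  have huniv : (Finset.univ.erase (1 : wcl z P)) = {a, a⁻¹} := by
    symm
    refine Finset.eq_of_subset_of_card_le ?_ ?_
    · intro x hx
      refine Finset.mem_erase.2 ⟨fun h1 => ?_, Finset.mem_univ _⟩
      rcases Finset.mem_insert.1 hx with rfl | hx
      · exact S.ne_one (congrArg Subtype.val h1)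
      · rw [Finset.mem_singleton.1 hx, inv_eq_one] at h1
        exact S.ne_one (congrArg Subtype.val h1)
    · rw [Finset.card_erase_of_mem (Finset.mem_univ _), Finset.card_univ, ← Nat.card_eq_fintype_card,
        hq, Finset.card_pair hne.symm]
  have hconj : IsConj z z⁻¹ := by
    have hsub : (Finset.univ.filter fun k : wcl z P => IsConj z (k : G)) ⊆
        Finset.univ.erase (1 : wcl z P) := by
      intro k hk
      refine Finset.mem_erase.2 ⟨fun h1 => S.ne_one ?_, Finset.mem_univ _⟩
      rw [h1] at hk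
      exact isConj_one_left.1 ((Finset.mem_filter.1 hk).2 : IsConj z ((1 : wcl z P) : G))
    have h := Finset.eq_of_subset_of_card_le hsub (by
      rw [hn, huniv, Finset.card_pair hne.symm])
    have hmem : a⁻¹ ∈ Finset.univ.filter fun k : wcl z P => IsConj z (k : G) := by
      rw [h, huniv]; simp
    exact (Finset.mem_filter.1 hmem).2
  -- the centraliser block
  set C := centralizer ({z} : Set G) with hC
  have hPC : (P : Subgroup G) ≤ C := fun x hx => mem_centralizer_singleton_iff.mpr (S.central x hx)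
  have hcz : cz M z = 3 := by
    haveI : Fintype C := Fintype.ofFinite _
    set P' : Sylow p C := P.subtype hPC
    have hburn : normalizer ((P' : Subgroup C) : Set C) ≤ centralizer ((P' : Subgroup C) : Set C) := by
      intro n _
      rw [mem_centralizer_iff]
      intro x hx
      have hx' : (x : G) ∈ wcl z P := hP ▸ hx
      rw [hA] at hx'
      obtain ⟨i, hi⟩ := mem_zpowers_iff.mp hx'
      refine Subtype.ext ?_
      simp only [Subgroup.coe_mul, ← hi]
      exact ((show Commute (n : G) z from mem_centralizer_singleton_iff.mp n.2).zpow_right i).eq.symm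
    have hcomp := MonoidHom.ker_transferSylow_isComplement' P' hburn
    set K := (MonoidHom.transferSylow P' hburn).ker
    have hidx : K.index = 3 := by
      rw [(Subgroup.IsComplement'.symm hcomp).index_eq_card]
      change Nat.card ((P : Subgroup G).subgroupOf C) = 3
      rw [Nat.card_congr (subgroupOfEquivOfLe hPC).toEquiv, hP, hq]
    have hK : ¬ p ∣ Nat.card K := H5.not_dvd_card_of_isComplement' hcomp
    have h := H22.Sub.sum_sq_principal_of_complement hM K hK ⟨1, by rw [hidx, hp3, pow_one]⟩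
    rw [hidx] at h
    rw [cz, H22.finsum_mem_block]
    apply Nat.cast_injective (R := ℂ)
    push_cast
    rw [← Nat.cast_ofNat (R := ℂ), ← h]
    exact Finset.sum_congr rfl fun ψ _ => by rw [H22.irr_one_eq_charDegree]; ring
  obtain ⟨h0, h1, -⟩ := S.moments hM hinter
  have hsum0 := S.sum_t_mul_degree hM
  rw [hn, hcz, hq] at h0 h1
  set B := H22.blockFinset (principalBlock M G) with hB
  -- the integral values at `z`
  have hint : ∀ χ : IrrCharacter G, ∃ x : ℤ, tVal χ P z = 2 * (x : ℝ) ∧ (χ : G → ℂ) z = (x : ℂ) := by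
    intro χ
    have h := sum_erase_one (P := P) (z := z) χ
    rw [huniv, Finset.sum_pair hne.symm] at h
    have he : (χ : G → ℂ) ((a⁻¹ : wcl z P) : G) = (χ : G → ℂ) z :=
      (H12.IsClassFunction.of_isConj (H12.irr_isClassFunction χ) hconj).symm
    rw [he] at h
    let r : ℚ := ((Nat.card (wcl z P) : ℚ) * (mult χ P z : ℚ) - (H12.degree (χ : G → ℂ) : ℚ)) / 2
    have hr : (χ : G → ℂ) z = (r : ℂ) := by
      have h' : (χ : G → ℂ) z + (χ : G → ℂ) z = (tVal χ P z : ℂ) := h
      simp only [r, tVal] at h' ⊢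
      push_cast at h' ⊢
      linear_combination h' / 2
    obtain ⟨x, hx⟩ := H12.exists_int_of_isIntegral_rat (q := r)
      (hr ▸ H12.IsCharacter.isIntegral (H12.isCharacter_irr χ) z)
    have hval : (χ : G → ℂ) z = (x : ℂ) := by rw [hr, ← hx]; push_cast; rfl
    refine ⟨x, Complex.ofReal_injective ?_, hval⟩
    rw [← h]
    change (χ : G → ℂ) z + (χ : G → ℂ) z = _
    rw [hval]; push_cast; ring
  choose x hx hxz using hint
  let d : IrrCharacter G → ℝ := fun χ => (H12.degree (χ : G → ℂ) : ℝ)
  have hd : ∀ χ, 0 < d χ := fun χ => Nat.cast_pos.2 (H12.irr_degree_pos χ)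
  have hr : ∀ χ, rVal χ P z = 1 + 2 * (x χ : ℝ) / d χ := fun χ => by
    have h := hx χ
    rw [tVal] at h
    have hd' := (hd χ).ne'
    simp only [d] at hd' ⊢
    rw [rVal, div_eq_iff hd']
    field_simp
    linarith
  have hone : H12.oneIrr G ∈ B := H22.mem_blockFinset.2 (H20.mem_blockOf_self (H12.oneIrr G))
  have hx1 : x (H12.oneIrr G) = 1 := by
    have h := hxz (H12.oneIrr G)
    rw [H12.oneIrr_apply] at h
    exact_mod_cast h.symm
  have hd1 : d (H12.oneIrr G) = 1 := S.tVal_oneIrr.2.2
  set B' := B.erase (H12.oneIrr G) with hB'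
  have e0 : ∑ χ ∈ B', (x χ : ℝ) ^ 2 = 2 := by
    simp only [hx, mul_pow, ← Finset.mul_sum] at h0
    rw [← Finset.add_sum_erase B _ hone, hx1] at h0
    push_cast at h0
    linarith
  have ed : ∑ χ ∈ B', (x χ : ℝ) * d χ = -1 := by
    simp only [hx, mul_assoc, ← Finset.mul_sum] at hsum0
    rw [← Finset.add_sum_erase B _ hone, hx1] at hsum0
    have : (H12.degree (H12.oneIrr G : G → ℂ) : ℝ) = 1 := hd1
    rw [this] at hsum0
    simp only [d]
    push_cast at hsum0
    linarith
  have e3 : ∑ χ ∈ B', (x χ : ℝ) ^ 3 / d χ = 1 / 2 := by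
    simp only [hx, hr] at h1
    rw [Finset.sum_congr rfl fun (χ : IrrCharacter G) _ => show
      (2 * (x χ : ℝ)) ^ 2 * (1 + 2 * (x χ : ℝ) / d χ) =
        4 * (x χ : ℝ) ^ 2 + 8 * ((x χ : ℝ) ^ 3 / d χ) by ring, Finset.sum_add_distrib,
      ← Finset.mul_sum, ← Finset.mul_sum, ← Finset.add_sum_erase B _ hone, ← hB', e0,
      ← Finset.add_sum_erase B _ hone, ← hB', hx1, hd1] at h1
    push_cast at h1
    linarith
  have hsmall : ∀ χ ∈ B', x χ = 0 ∨ x χ = 1 ∨ x χ = -1 := by
    intro χ hχ
    have h : (x χ : ℝ) ^ 2 ≤ 2 := e0 ▸ Finset.single_le_sum (f := fun ξ => (x ξ : ℝ) ^ 2)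
      (fun ξ _ => sq_nonneg _) hχ
    have h' : x χ ^ 2 ≤ 2 := by exact_mod_cast h
    have : x χ ≤ 1 := by nlinarith
    have : -1 ≤ x χ := by nlinarith
    omega
  -- the support has two elements
  set T := B'.filter fun χ => x χ ≠ 0
  have hsupp : ∀ f : IrrCharacter G → ℝ, (∀ χ, x χ = 0 → f χ = 0) →
      ∑ χ ∈ B', f χ = ∑ χ ∈ T, f χ := fun f hf => by
    refine (Finset.sum_filter_of_ne (p := fun χ => x χ ≠ 0) ?_).symm
    exact fun χ _ hne hx0 => hne (hf χ hx0)
  have hT2 : T.card = 2 := by
    have h := e0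
    rw [hsupp _ (fun χ h => by simp [h])] at h
    rw [Finset.sum_congr rfl fun χ hχ => show (x χ : ℝ) ^ 2 = 1 by
      obtain ⟨hχ', hne⟩ := Finset.mem_filter.1 hχ
      rcases hsmall χ hχ' with h | h | h <;> simp_all] at h
    simp at h
    exact_mod_cast h
  obtain ⟨c1, c2, hc, hT⟩ := Finset.card_eq_two.1 hT2
  rw [hsupp _ (fun χ h => by simp [h]), hT, Finset.sum_pair hc] at ed e3
  have hpm : ∀ c ∈ T, ((x c : ℝ) = 1 ∧ 2 ≤ d c) ∨ (x c : ℝ) = -1 := by
    intro c hcT
    obtain ⟨hcB, hne⟩ := Finset.mem_filter.1 hcT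
    rcases hsmall c hcB with h | h | h
    · exact absurd h hne
    · refine Or.inl ⟨by simp [h], ?_⟩
      simp only [d]
      have hd0 := H12.irr_degree_pos c
      refine Nat.ofNat_le_cast.2 ?_
      by_contra hlt
      have hd1' : H12.degree (c : G → ℂ) = 1 := by omega
      refine Finset.ne_of_mem_erase hcB (S.eq_oneIrr_of_apply_eq S.ne_one ?_)
      rw [hxz c, h, H12.irr_apply_one, hd1']
      norm_num
    · exact Or.inr (by simp [h])
  have hc1 := hpm c1 (by rw [hT]; simp)
  have hc2 := hpm c2 (by rw [hT]; simp)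
  have hp1 := hd c1
  have hp2 := hd c2
  have hi1 : 0 < 1 / d c1 := by positivity
  have hi2 : 0 < 1 / d c2 := by positivity
  rcases hc1 with ⟨e1, g1⟩ | e1 <;> rcases hc2 with ⟨e2, g2⟩ | e2 <;>
    rw [e1, e2] at ed e3 <;> norm_num [neg_div] at ed e3
  · linarith
  · have : 1 / d c1 ≤ 1 / 2 := one_div_le_one_div_of_le (by norm_num) g1
    simp only [one_div] at this hi2
    linarith
  · have : 1 / d c2 ≤ 1 / 2 := one_div_le_one_div_of_le (by norm_num) g2
    simp only [one_div] at this hi1
    linarith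
  · simp only [one_div] at hi1 hi2
    linarith

/-- No minimal counterexample. -/
theorem false' [Finite G] [Fact p.Prime] : False := by
  classical
  haveI : Fintype G := Fintype.ofFinite G
  haveI : Fintype (wcl z P) := Fintype.ofFinite _
  obtain ⟨M, hM⟩ := H20.exists_isPModular (Fact.out : p.Prime)
  haveI := hM.2.1.isPrime
  have hinter := S.inter_centralizer_le hM
  have hn2 := S.two_le_conj hinter
  have hczP := S.sylow_card_le_cz hM
  have hAP := card_dvd_of_le (wcl_le z P)
  have hAP' : Nat.card (wcl z P) ≤ Nat.card (P : Subgroup G) := Nat.le_of_dvd Nat.card_pos hAP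
  have hq2 := S.two_le_card
  set n := (Finset.univ.filter fun k : wcl z P => IsConj z (k : G)).card with hn
  set q := Nat.card (wcl z P) with hq
  have hnq : n + 1 ≤ q := by
    have h : (Finset.univ.filter fun k : wcl z P => IsConj z (k : G)).card ≤
        (Finset.univ.erase (1 : wcl z P)).card := by
      refine Finset.card_le_card fun k hk => Finset.mem_erase.2 ⟨fun h1 => S.ne_one ?_,
        Finset.mem_univ _⟩
      rw [h1] at hk
      exact isConj_one_left.1 ((Finset.mem_filter.1 hk).2 : IsConj z ((1 : wcl z P) : G))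
    rw [Finset.card_erase_of_mem (Finset.mem_univ _), Finset.card_univ, ← Nat.card_eq_fintype_card,
      ← hn, ← hq] at h
    omega
  have hR : 2 * Nat.card (P : Subgroup G) ≤ n * cz M z := Nat.mul_le_mul hn2 hczP
  rcases S.count_bound hM hinter with h | h
  · rw [← hn, ← hq] at h
    omega
  rw [← hn, ← hq] at h
  rcases Nat.lt_or_ge q 5 with hq5 | hq5
  swap
  · have h' : (2 * q : ℝ) ≤ ((n * cz M z : ℕ) : ℝ) := by
      exact_mod_cast (Nat.mul_le_mul_left 2 hAP').trans hR
    have hq5' : (5 : ℝ) ≤ (q : ℝ) := by exact_mod_cast hq5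
    nlinarith
  have hcases : q = 2 ∨ q = 3 ∨ q = 4 := by omega
  rcases hcases with hq' | hq' | hq'
  · omega
  · exact S.false_of_card_three hM hinter hq' (by rw [← hn]; omega)
  · rw [hq'] at h
    norm_num at h
    have hlt : n * cz M z < 12 := by exact_mod_cast h
    have hp2 : p = 2 := by
      have h4 : p ∣ 4 := by
        have := S.dvd_card_wcl
        rwa [← hq, hq'] at this
      exact (Nat.prime_dvd_prime_iff_eq Fact.out Nat.prime_two).mp
        ((Fact.out : p.Prime).dvd_of_dvd_pow (show p ∣ 2 ^ 2 from h4))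
    have hPcard : Nat.card (P : Subgroup G) = q := by
      obtain ⟨c, hc⟩ := hAP
      rw [hq'] at hc
      have : c < 2 := by omega
      have : 0 < Nat.card (P : Subgroup G) := Nat.card_pos
      omega
    have hPA : (P : Subgroup G) = wcl z P := (eq_of_le_of_card_ge (wcl_le z P) hPcard.le).symm
    have hn2' : n = 2 := by
      by_contra hne
      have h3 : 3 * 4 ≤ n * cz M z := Nat.mul_le_mul (by omega) (by omega)
      omega
    obtain ⟨c1, c2, hc, hT⟩ := Finset.card_eq_two.1 (hn ▸ hn2')
    have hmem : ∀ k : wcl z P, k ∈ ({c1, c2} : Finset (wcl z P)) ↔ IsConj z (k : G) := fun k => by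
      rw [← hT]; simp
    rcases Finset.mem_insert.1 ((hmem ⟨z, S.mem_wcl⟩).2 (IsConj.refl z)) with e | e
    · refine S.false_of_card_four hp2 hPA c2.2 ((hmem c2).1 (by simp))
        (fun h2 => hc (by rw [← e]; exact Subtype.ext h2.symm)) fun k hk hck => ?_
      rcases Finset.mem_insert.1 ((hmem ⟨k, hk⟩).2 hck) with e' | e'
      · exact Or.inl (congrArg Subtype.val (e'.trans e.symm))
      · exact Or.inr (congrArg Subtype.val (Finset.mem_singleton.1 e'))
    · rw [Finset.mem_singleton] at e
      refine S.false_of_card_four hp2 hPA c1.2 ((hmem c1).1 (by simp))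
        (fun h2 => hc (by rw [← e]; exact Subtype.ext h2)) fun k hk hck => ?_
      rcases Finset.mem_insert.1 ((hmem ⟨k, hk⟩).2 hck) with e' | e'
      · exact Or.inr (congrArg Subtype.val e')
      · exact Or.inl (congrArg Subtype.val ((Finset.mem_singleton.1 e').trans e.symm))

end Setup

/-- All pairs of Sylow `p`-subgroups generate `p`-soluble groups. -/
theorem isPSolvable_of_pairs : ∀ (n : ℕ) (G : Type u) [Group G] [Finite G], Nat.card G = n →
    ∀ [Fact p.Prime], (∀ P Q : Sylow p G, IsPSolvable p ↥((P : Subgroup G) ⊔ Q)) →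
      IsPSolvable p G := by
  intro n
  induction n using Nat.strong_induction_on with
  | _ n ih =>
  intro G _ _ hn _ hpair
  subst hn
  rcases subsingleton_or_nontrivial G with hs | hs
  · exact H10.isPSolvable_of_subsingleton
  by_contra hnot
  have hproper : ∀ S : Subgroup G, S ≠ ⊤ → IsPSolvable p S := by
    intro S hS
    refine ih _ (Nat.lt_of_le_of_ne (card_le_card_group S) fun h => hS (eq_top_of_card_eq S h))
      S rfl fun Q R => ?_
    obtain ⟨Q', hQ'⟩ := (Q.2.map S.subtype).exists_le_sylow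
    obtain ⟨R', hR'⟩ := (R.2.map S.subtype).exists_le_sylow
    have hle : ((Q : Subgroup S) ⊔ R).map S.subtype ≤ (Q' : Subgroup G) ⊔ R' := by
      rw [Subgroup.map_sup]
      exact sup_le_sup hQ' hR'
    exact H10.isPSolvable_of_injective (hpair Q' R')
      ((inclusion hle).comp
        (equivMapOfInjective ((Q : Subgroup S) ⊔ R) S.subtype S.subtype_injective).toMonoidHom)
      ((inclusion_injective hle).comp
        (equivMapOfInjective ((Q : Subgroup S) ⊔ R) S.subtype S.subtype_injective).injective)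
  have hsimple : IsSimpleGroup G := ⟨fun N hN => by
    by_contra hcon
    push Not at hcon
    refine hnot (H10.isPSolvable_of_normal N (hproper N hcon.2)
      (ih _ (H10.card_quotient_lt N hcon.1) (G ⧸ N) rfl fun Q R => ?_))
    obtain ⟨Q', rfl⟩ := Sylow.mapSurjective_surjective (QuotientGroup.mk'_surjective N) p Q
    obtain ⟨R', rfl⟩ := Sylow.mapSurjective_surjective (QuotientGroup.mk'_surjective N) p R
    rw [Sylow.coe_mapSurjective, Sylow.coe_mapSurjective, ← Subgroup.map_sup]
    exact H10.isPSolvable_of_surjective (hpair Q' R') _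
      ((QuotientGroup.mk' N).subgroupMap_surjective _)⟩
  have hdvd : p ∣ Nat.card G := by
    by_contra hnd
    refine hnot (H10.isPSolvable_of_quotient_of_card ⊤ (Or.inr ?_) ?_)
    · rw [card_top]
      exact ((Fact.out : p.Prime).coprime_iff_not_dvd.mpr hnd).symm
    · haveI : Subsingleton (G ⧸ (⊤ : Subgroup G)) := QuotientGroup.subsingleton_quotient_top
      exact H10.isPSolvable_of_subsingleton
  obtain ⟨P⟩ := (inferInstance : Nonempty (Sylow p G))
  haveI : Nontrivial (P : Subgroup G) := (nontrivial_iff_ne_bot _).mpr (P.ne_bot_of_dvd_card hdvd)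
  haveI := P.2.center_nontrivial
  have hcp : p ∣ Nat.card (center (P : Subgroup G)) := by
    obtain ⟨k, hk⟩ := (P.2.to_subgroup (center (P : Subgroup G))).exists_card_eq
    rw [hk]
    refine dvd_pow_self p fun h => ?_
    rw [h, pow_zero] at hk
    exact Finite.one_lt_card.ne' hk
  obtain ⟨⟨⟨z, hzP⟩, hzc⟩, hzo⟩ := exists_prime_orderOf_dvd_card' p hcp
  rw [orderOf_mk, orderOf_mk] at hzo
  have hS : Setup p z P :=
    { simple := hsimple
      notPSolvable := hnot
      proper := hproper
      pair := hpair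
      mem := hzP
      central := fun s hs => congrArg Subtype.val (mem_center_iff.mp hzc ⟨s, hs⟩)
      ne_one := fun h => (Fact.out : p.Prime).ne_one (by rw [← hzo, h, orderOf_one])
      pow_eq := hzo ▸ pow_orderOf_eq_one z }
  exact hS.false'

/-- The criterion with a fixed Sylow subgroup. -/
theorem isPSolvable_iff_pairs {G : Type u} [Group G] [Finite G] [Fact p.Prime] (P : Sylow p G) :
    IsPSolvable p G ↔ ∀ g : G,
      IsPSolvable p ↥((P : Subgroup G) ⊔ (P : Subgroup G).map (MulAut.conj g).toMonoidHom) := by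
  refine ⟨fun h g => H10.isPSolvable_subgroup h _, fun h =>
    isPSolvable_of_pairs _ G rfl fun Q R => ?_⟩
  obtain ⟨x, rfl⟩ := MulAction.exists_smul_eq G P Q
  obtain ⟨y, rfl⟩ := MulAction.exists_smul_eq G P R
  have hQ : ∀ t : G, ((t • P : Sylow p G) : Subgroup G) =
      (P : Subgroup G).map (MulAut.conj t).toMonoidHom := fun t => by
    rw [Sylow.smul_def, Sylow.pointwise_smul_def]; rfl
  have hle : ((x • P : Sylow p G) : Subgroup G) ⊔ ((y • P : Sylow p G) : Subgroup G) ≤
      ((P : Subgroup G) ⊔ (P : Subgroup G).map (MulAut.conj (x⁻¹ * y)).toMonoidHom).map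
        (MulAut.conj x).toMonoidHom := by
    rw [hQ, hQ, Subgroup.map_sup]
    refine sup_le_sup le_rfl ?_
    change cj y _ ≤ cj x (cj (x⁻¹ * y) _)
    rw [cj_cj, mul_inv_cancel_left]
  exact H10.isPSolvable_of_injective
    (H10.isPSolvable_of_equiv (h (x⁻¹ * y))
      (equivMapOfInjective _ (MulAut.conj x).toMonoidHom (MulAut.conj x).injective))
    (inclusion hle) (inclusion_injective hle)

end H66.PairGen
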