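import Cfsg.Agent.H66.PairGen.Central

/-!
`p'`-subgroups of a centraliser normalised by the weakly closed subgroup and by a Sylow subgroup of
its centraliser lie in the `p'`-core of that centraliser.
-/

set_option autoImplicit false
set_option linter.style.haveILetI false

open Subgroup Cfsg
open scoped commutatorElement

namespace H66.PairGen

open H70 H31.EXO

variable {G : Type*} [Group G] {p : ℕ}

/-- In a `p`-soluble group with trivial `p'`-core no nontrivial `p'`-subgroup is normalised by a
Sylow subgroup. -/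
theorem eq_bot_of_sylow_normalizes [Finite G] [Fact p.Prime] (hG : IsPSolvable p G)
    (hcore : pPrimeCore p G = ⊥) {R : Subgroup G} (hR : (Nat.card R).Coprime p) (S : Sylow p G)
    (hS : (S : Subgroup G) ≤ normalizer (R : Set G)) : R = ⊥ := by
  have hle : R ≤ centralizer (pCore p G : Set G) := by
    intro r hr
    rw [mem_centralizer_iff]
    intro x hx
    have h1 : ⁅x, r⁆ ∈ R := by
      have := mul_mem ((mem_set_normalizer_iff.mp (hS (H10.pCore_le_sylow S hx)) r).mp hr)
        (inv_mem hr)
      simpa [commutatorElement_def] using this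
    have h2 : ⁅x, r⁆ ∈ pCore p G := by
      have := mul_mem hx ((H10.pCore_normal (G := G) (p := p)).conj_mem _ (inv_mem hx) r)
      simpa [commutatorElement_def, mul_assoc] using this
    have h : ⁅x, r⁆ ∈ R ⊓ pCore p G := ⟨h1, h2⟩
    rw [show R ⊓ pCore p G = ⊥ by
      rw [inf_comm]; exact H10.inf_eq_bot_of_isPGroup_coprime H10.pCore_isPGroup hR] at h
    exact commutatorElement_eq_one_iff_mul_comm.mp (mem_bot.mp h)
  have h := hle.trans (H10.centralizer_pCore_le hG hcore)
  rw [← inf_eq_left.mpr h, inf_comm]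
  exact H10.inf_eq_bot_of_isPGroup_coprime H10.pCore_isPGroup hR

/-- Inside a `p`-soluble group in which every conjugate of `A` lies in `O_{p'} A`: a `p'`-subgroup
normalised by `A` and by a Sylow subgroup of the centraliser of `A` lies in `O_{p'}`. -/
theorem le_pPrimeCore_of_normalized [Finite G] [Fact p.Prime] (hG : IsPSolvable p G)
    {A : Subgroup G} (hA : IsPGroup p A) (hcj : ∀ g : G, cj g A ≤ pPrimeCore p G ⊔ A)
    {R : Subgroup G} (hR : (Nat.card R).Coprime p) (hAR : A ≤ normalizer (R : Set G))
    (W : Sylow p (centralizer (A : Set G)))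
    (hW : (W : Subgroup (centralizer (A : Set G))).map (centralizer (A : Set G)).subtype ≤
      normalizer (R : Set G)) :
    R ≤ pPrimeCore p G := by
  set q := QuotientGroup.mk' (pPrimeCore p G) with hq
  have hsurj := QuotientGroup.mk'_surjective (pPrimeCore p G)
  have hθA : ∀ x, x ∈ pPrimeCore p G → x ∈ A → x = 1 := fun x h1 h2 =>
    eq_one_of_mem hA H10.pPrimeCore_coprime h2 h1
  -- the image of `A` is normal
  haveI hAn : (A.map q).Normal := by
    refine ⟨?_⟩
    rintro _ ⟨a, ha, rfl⟩ g
    obtain ⟨x, rfl⟩ := hsurj g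
    have h := mem_map_of_mem q (hcj x ⟨a, ha, rfl⟩)
    rw [Subgroup.map_sup, show (pPrimeCore p G).map q = ⊥ from
      (Subgroup.map_eq_bot_iff _).mpr (by rw [hq, QuotientGroup.ker_mk']), bot_sup_eq] at h
    change q (x * a * x⁻¹) ∈ _ at h
    rw [map_mul, map_mul, map_inv] at h
    exact h
  -- its centraliser is the image of the centraliser
  set Dq := centralizer (A.map q : Set (G ⧸ pPrimeCore p G))
  let f : centralizer (A : Set G) →* Dq :=
    (q.comp (centralizer (A : Set G)).subtype).codRestrict Dq fun c => by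
      rw [mem_centralizer_iff]
      rintro _ ⟨a, ha, rfl⟩
      rw [MonoidHom.comp_apply, coe_subtype, ← map_mul, mem_centralizer_iff.mp c.2 a ha, map_mul]
  have hf : Function.Surjective f := by
    rintro ⟨y, hy⟩
    obtain ⟨c, rfl⟩ := hsurj y
    obtain ⟨k, hk, hkc⟩ := exists_conj_of_le_sup hA (hA.map (MulAut.conj c).toMonoidHom)
      H10.pPrimeCore_coprime le_normalizer_of_normal (hcj c) (card_cj c A)
    have hn : k⁻¹ * c ∈ normalizer (A : Set G) := by
      rw [← cj_eq_self_iff, ← cj_cj, show cj c A = cj k A from hkc.symm, cj_cj, inv_mul_cancel,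
        cj_one]
    have hqn : q (k⁻¹ * c) = q c := by
      rw [map_mul, map_inv, show q k = 1 from (QuotientGroup.eq_one_iff k).mpr hk, inv_one, one_mul]
    refine ⟨⟨k⁻¹ * c, mem_centralizer_iff.mpr fun a ha => ?_⟩, Subtype.ext hqn⟩
    have hmem : ⁅k⁻¹ * c, a⁆ ∈ A := by
      have := mul_mem ((mem_set_normalizer_iff.mp hn a).mp ha) (inv_mem ha)
      simpa [commutatorElement_def] using this
    have h1 : ⁅k⁻¹ * c, a⁆ ∈ pPrimeCore p G := by
      rw [← QuotientGroup.eq_one_iff]
      change q _ = 1
      rw [map_commutatorElement, hqn]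
      exact commutatorElement_eq_one_iff_mul_comm.mpr
        (mem_centralizer_iff.mp hy _ (mem_map_of_mem q ha)).symm
    exact (commutatorElement_eq_one_iff_mul_comm.mp (hθA _ h1 hmem)).symm
  -- the image of `R` centralises the image of `A`
  set Rq := R.map q
  have hRq : (Nat.card Rq).Coprime p := hR.coprime_dvd_left (card_map_dvd R q)
  have hRD : Rq ≤ Dq := by
    intro r hr
    rw [mem_centralizer_iff]
    intro a ha
    have h1 : ⁅a, r⁆ ∈ Rq := by
      have hn := (Subgroup.map_mono hAR).trans (le_normalizer_map q) ha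
      have := mul_mem ((mem_set_normalizer_iff.mp hn r).mp hr) (inv_mem hr)
      rw [commutatorElement_def]
      exact this
    have h2 : ⁅a, r⁆ ∈ A.map q := by
      have := mul_mem ha (hAn.conj_mem _ (inv_mem ha) r)
      simpa [commutatorElement_def, mul_assoc] using this
    exact commutatorElement_eq_one_iff_mul_comm.mp (eq_one_of_mem (hA.map q) hRq h2 h1)
  -- apply the lemma in the centraliser
  haveI hDn : Dq.Normal := by
    refine ⟨fun d hd g => mem_centralizer_iff.mpr fun a ha => ?_⟩
    have ha' : g⁻¹ * a * g ∈ A.map q := by simpa using hAn.conj_mem a ha g⁻¹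
    have h := mem_centralizer_iff.mp hd _ ha'
    calc a * (g * d * g⁻¹) = g * (g⁻¹ * a * g * d) * g⁻¹ := by group
      _ = g * (d * (g⁻¹ * a * g)) * g⁻¹ := by rw [h]
      _ = g * d * g⁻¹ * a := by group
  have hDcore : pPrimeCore p Dq = ⊥ := by
    refine (Subgroup.map_eq_bot_iff_of_injective _ Dq.subtype_injective).mp ?_
    rw [← le_bot_iff]
    exact (H10.map_pPrimeCore_subtype_le hDn).trans H10.pPrimeCore_quotient_pPrimeCore.le
  have hWn : ((W.mapSurjective hf : Sylow p Dq) : Subgroup Dq) ≤
      normalizer (Rq.subgroupOf Dq : Set Dq) := by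
    rw [Sylow.coe_mapSurjective]
    rintro _ ⟨w, hw, rfl⟩
    refine le_normalizer_comap Dq.subtype
      (show f w ∈ comap Dq.subtype (normalizer (Rq : Set _)) from ?_)
    exact le_normalizer_map q (mem_map_of_mem q (hW ⟨w, hw, rfl⟩))
  have hbot := eq_bot_of_sylow_normalizes
    (H10.isPSolvable_subgroup (H10.isPSolvable_quotient hG _) Dq) hDcore
    (R := Rq.subgroupOf Dq)
    (by rwa [Nat.card_congr (subgroupOfEquivOfLe hRD).toEquiv]) (W.mapSurjective hf) hWn
  intro r hr
  rw [← QuotientGroup.eq_one_iff]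
  have hr' : (⟨q r, hRD (mem_map_of_mem q hr)⟩ : Dq) ∈ Rq.subgroupOf Dq := mem_map_of_mem q hr
  rw [hbot, mem_bot] at hr'
  exact congrArg Subtype.val hr'

/-- The form used at a centraliser. -/
theorem le_centralizerPPrimeCore [Finite G] [Fact p.Prime] {A : Subgroup G} (hA : IsPGroup p A)
    {w : G} (hC : IsPSolvable p (centralizer ({w} : Set G))) (hAw : A ≤ centralizer ({w} : Set G))
    (hcj : ∀ g ∈ centralizer ({w} : Set G), cj g A ≤ coreIn p (centralizer ({w} : Set G)) ⊔ A)
    {R : Subgroup G} (hR : (Nat.card R).Coprime p) (hRw : R ≤ centralizer ({w} : Set G))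
    (hAR : A ≤ normalizer (R : Set G))
    (W : Sylow p ↥(centralizer (A : Set G) ⊓ centralizer ({w} : Set G)))
    (hW : (W : Subgroup _).map (centralizer (A : Set G) ⊓ centralizer ({w} : Set G)).subtype ≤
      normalizer (R : Set G)) :
    R ≤ centralizerPPrimeCore p w := by
  let C := centralizer ({w} : Set G)
  let D := centralizer (A : Set G) ⊓ C
  let A' := A.subgroupOf C
  let e : D →* centralizer (A' : Set C) :=
    ((inclusion (inf_le_right : D ≤ C))).codRestrict _ fun d => by
      rw [mem_centralizer_iff]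
      rintro a ha
      exact Subtype.ext (mem_centralizer_iff.mp d.2.1 (a : G) ha)
  have he : Function.Surjective e := by
    rintro ⟨⟨c, hc⟩, hc'⟩
    refine ⟨⟨c, mem_centralizer_iff.mpr fun a ha => ?_, hc⟩, Subtype.ext (Subtype.ext rfl)⟩
    exact congrArg Subtype.val (mem_centralizer_iff.mp hc' ⟨a, hAw ha⟩ ha)
  have hcj' : ∀ g : C, cj g A' ≤ pPrimeCore p C ⊔ A' := by
    rintro g _ ⟨a, ha, rfl⟩
    have h := hcj g g.2 ⟨(a : G), ha, rfl⟩
    have h2 : coreIn p C ⊔ A ≤ (pPrimeCore p C ⊔ A').map C.subtype := by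
      rw [Subgroup.map_sup, map_subgroupOf_eq_of_le hAw]
      exact le_rfl
    obtain ⟨x, hx, hxe⟩ := h2 h
    have : x = (MulAut.conj g).toMonoidHom a := Subtype.ext (by simpa using hxe)
    exact this ▸ hx
  have hmain := le_pPrimeCore_of_normalized hC (hA.comap_of_injective C.subtype C.subtype_injective)
    hcj' (R := R.subgroupOf C) (by rwa [Nat.card_congr (subgroupOfEquivOfLe hRw).toEquiv])
    (fun a ha => le_normalizer_comap C.subtype (show (a : G) ∈ normalizer (R : Set G) from hAR ha))
    (W.mapSurjective he) (by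
      rintro _ ⟨y, hy, rfl⟩
      obtain ⟨d, hd, rfl⟩ := (Sylow.coe_mapSurjective he W).le hy
      exact le_normalizer_comap C.subtype (show ((d : D) : G) ∈ normalizer (R : Set G) from
        hW (mem_map_of_mem _ hd)))
  intro r hr
  exact ⟨⟨r, hRw hr⟩, hmain hr, rfl⟩

end H66.PairGen
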