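import Cfsg.Agent.H66.PairGen.Setup
import Mathlib.Analysis.Complex.Norm

/-!
The class-product equations in the principal block.
-/

set_option autoImplicit false
set_option linter.style.haveILetI false
set_option linter.unusedSectionVars false

open Subgroup Cfsg
open scoped commutatorElement ComplexConjugate

namespace H66.PairGen

open H70 H31.EXO

universe u

variable {G : Type u} [Group G] [Fintype G] {p : ℕ} [Fact p.Prime] {M : Ideal AlgInt} [M.IsPrime]
  {z : G} {P : Sylow p G} [Fintype (wcl z P)]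

namespace Setup

variable (S : Setup p z P)

/-- The sum of a character over `A`. -/
noncomputable def sA (χ : IrrCharacter G) (P : Sylow p G) (z : G) [Fintype (wcl z P)] : ℂ :=
  ∑ a : wcl z P, (χ : G → ℂ) a

omit [M.IsPrime] in
theorem sum_apply_conj (χ : IrrCharacter G) (x : G) (A : Subgroup G) [Fintype A] :
    ∑ g : G, ∑ a : A, (χ : G → ℂ) (x * (g * a * g⁻¹)) =
      (Nat.card G : ℂ) * (χ : G → ℂ) x * (∑ a : A, (χ : G → ℂ) a) / (χ : G → ℂ) 1 := by
  rw [Finset.sum_comm, Finset.mul_sum, Finset.sum_div]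
  exact Finset.sum_congr rfl fun a _ => by rw [H12.irr_class_product]; ring

include S

theorem mem_pElement {w : G} (hw : w ∈ (P : Subgroup G)) : ∃ j, w ^ p ^ j = 1 := by
  obtain ⟨j, hj⟩ := P.2 ⟨w, hw⟩
  exact ⟨j, by simpa using congrArg Subtype.val hj⟩

/-- The coset sums outside `A` in `P ∩ C(A)`. -/
theorem coset_sum (hM : IsPModular p M) {t : G} (htP : t ∈ (P : Subgroup G))
    (htC : t ∈ centralizer (wcl z P : Set G)) (htA : t ∉ wcl z P) {χ : IrrCharacter G}
    (hχ : χ ∈ principalBlock M G) :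
    (χ : G → ℂ) 1 * ∑ a : wcl z P, (χ : G → ℂ) (t * a) = (χ : G → ℂ) t * sA χ P z := by
  obtain ⟨c, hc, W, hWP, hyW, hW⟩ := S.exists_centralized_conj htP htC
  set y := c * t * c⁻¹ with hy
  have hfix : ∀ a ∈ wcl z P, c * a * c⁻¹ = a := fun a ha => by
    rw [← (mem_centralizer_iff.mp hc a ha), mul_inv_cancel_right]
  have hyC : y ∈ centralizer (wcl z P : Set G) := (hW.1 hyW).1
  have hyA : y ∉ wcl z P := fun h => htA (by
    have h1 := hfix y h
    have h2 : t = y := by
      have : c * y * c⁻¹ = c * t * c⁻¹ := h1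
      exact (mul_left_cancel (mul_right_cancel this)).symm
    exact h2 ▸ h)
  have hsum : ∑ a : wcl z P, (χ : G → ℂ) (t * a) = ∑ a : wcl z P, (χ : G → ℂ) (y * a) := by
    refine Finset.sum_congr rfl fun a _ => ?_
    rw [show y * (a : G) = c * (t * a) * c⁻¹ by
      conv_lhs => rw [← hfix a a.2]
      rw [hy]; group, irr_conj_comm]
  have hval : (χ : G → ℂ) t = (χ : G → ℂ) y := by rw [hy, irr_conj_comm]
  rw [hsum, hval]
  have hg : ∀ g : G, ∑ a : wcl z P, (χ : G → ℂ) (y * (g * a * g⁻¹)) =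
      ∑ a : wcl z P, (χ : G → ℂ) (y * a) := by
    intro g
    set X := (P : Subgroup G) ⊔ (g • P : Sylow p G) with hX
    have hAX : wcl z P ≤ X := (wcl_le z P).trans le_sup_left
    have hgX : cj g (wcl z P) ≤ X := by
      refine le_trans ?_ le_sup_right
      rw [Sylow.smul_def, Sylow.pointwise_smul_def]
      exact cj_mono g (wcl_le z P)
    obtain ⟨σ, hσ⟩ := S.matching (S.pair _ _) hAX hgX
    rw [← Equiv.sum_comp σ fun a : wcl z P => (χ : G → ℂ) (y * a)]
    refine Finset.sum_congr rfl fun a _ => ?_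
    have hyP : y ∈ (P : Subgroup G) := hWP hyW
    have hw : y * (σ a : G) ∈ (P : Subgroup G) := mul_mem hyP (wcl_le z P (σ a).2)
    have hD : centralizer (wcl z P : Set G) ⊓ centralizer ({y * (σ a : G)} : Set G) =
        centralizer (wcl z P : Set G) ⊓ centralizer ({y} : Set G) := by
      ext x
      simp only [mem_inf, mem_centralizer_singleton_iff]
      refine and_congr_right fun hx => ?_
      have hxa : Commute x (σ a : G) := (mem_centralizer_iff.mp hx (σ a) (σ a).2).symm
      constructor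
      · intro h
        have h2 : Commute x (y * (σ a : G) * (σ a : G)⁻¹) :=
          (show Commute x (y * (σ a : G)) from h).mul_right hxa.inv_right
        rwa [mul_inv_cancel_right] at h2
      · intro h
        exact ((show Commute x y from h).mul_right hxa).eq
    rw [show y * (g * (a : G) * g⁻¹) =
      (y * (g * a * g⁻¹ * (σ a : G)⁻¹) * y⁻¹) * (y * (σ a : G)) by group]
    refine S.value_eq hM hAX (mem_sup_left hw) (fun h => hyA ?_) (S.mem_pElement hw)
      (fun b hb => mem_centralizer_singleton_iff.mpr ?_) (hD ▸ hW) (hWP.trans le_sup_left)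
      ((mem_set_normalizer_iff.mp (le_normalizer_coreIn (p := p) X (mem_sup_left hyP)) _).mp (hσ a))
      hχ
    · rw [mul_eq_one_iff_eq_inv] at h
      rw [h]; exact inv_mem (σ a).2
    · exact ((show Commute b y from mem_centralizer_iff.mp hyC b hb).mul_right
        (show Commute b (σ a : G) from S.comm b hb _ (σ a).2)).eq
  have h := sum_apply_conj χ y (wcl z P)
  rw [Finset.sum_congr rfl fun g _ => hg g, Finset.sum_const, Finset.card_univ, nsmul_eq_mul,
    ← Nat.card_eq_fintype_card] at h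
  rw [sA]
  have hd := H12.irr_apply_one_ne_zero χ
  have hG : (Nat.card G : ℂ) ≠ 0 := Nat.cast_ne_zero.2 Nat.card_pos.ne'
  rw [eq_div_iff hd] at h
  apply mul_left_cancel₀ hG
  linear_combination h

omit [M.IsPrime] in
/-- Only the principal character has full fixed space on `A`. -/
theorem eq_oneIrr_of_sA_eq {χ : IrrCharacter G}
    (h : sA χ P z = (Nat.card (wcl z P) : ℂ) * (χ : G → ℂ) 1) : χ = H12.oneIrr G := by
  refine S.eq_oneIrr_of_apply_eq S.ne_one ?_
  have hle : ∀ a : wcl z P, ((χ : G → ℂ) a).re ≤ (H12.degree (χ : G → ℂ) : ℝ) := fun a =>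
    (Complex.re_le_norm _).trans (H12.IsCharacter.norm_le (H12.isCharacter_irr χ) _)
  have hsum : ∑ a : wcl z P, ((H12.degree (χ : G → ℂ) : ℝ) - ((χ : G → ℂ) a).re) = 0 := by
    have h2 := congrArg Complex.re h
    rw [sA, Complex.re_sum, H12.irr_apply_one, ← Nat.cast_mul, Complex.natCast_re] at h2
    rw [Finset.sum_sub_distrib, h2, Finset.sum_const, Finset.card_univ, nsmul_eq_mul,
      ← Nat.card_eq_fintype_card, Nat.cast_mul, sub_self]
  have hz := (Finset.sum_eq_zero_iff_of_nonneg fun a _ => sub_nonneg.2 (hle a)).1 hsum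
    ⟨z, S.mem_wcl⟩ (Finset.mem_univ _)
  have hre : ((χ : G → ℂ) z).re = (H12.degree (χ : G → ℂ) : ℝ) := (sub_eq_zero.1 hz).symm
  have hnorm := H12.IsCharacter.norm_le (H12.isCharacter_irr χ) z
  have him : ((χ : G → ℂ) z).im = 0 :=
    Complex.abs_re_eq_norm.1 (le_antisymm (Complex.abs_re_le_norm _)
      (hnorm.trans (hre ▸ le_abs_self _)))
  rw [H12.irr_apply_one]
  exact Complex.ext (by rw [hre, Complex.natCast_re]) (by rw [him, Complex.natCast_im])

omit [M.IsPrime] in
theorem sA_oneIrr : sA (H12.oneIrr G) P z = (Nat.card (wcl z P) : ℂ) := by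
  simp [sA, H12.oneIrr_apply, Nat.card_eq_fintype_card]

/-- `A` is a Sylow subgroup of its centraliser. -/
theorem inter_centralizer_le (hM : IsPModular p M) :
    (P : Subgroup G) ⊓ centralizer (wcl z P : Set G) ≤ wcl z P := by
  classical
  intro t ht
  by_contra htA
  set q := (Nat.card (wcl z P) : ℂ) with hq
  set B := H22.blockFinset (principalBlock M G) with hB
  have hzero : ∀ χ ∈ B, χ ≠ H12.oneIrr G → (χ : G → ℂ) t * sA χ P z = 0 := by
    intro χ hχ hne
    have hχ' := H22.mem_blockFinset.1 hχ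
    have e : ∀ a0 : wcl z P, (χ : G → ℂ) 1 * ∑ a : wcl z P, (χ : G → ℂ) (t * a) =
        (χ : G → ℂ) (t * a0) * sA χ P z := by
      intro a0
      have hC : wcl z P ≤ centralizer (wcl z P : Set G) := fun a ha =>
        mem_centralizer_iff.mpr fun b hb => S.comm b hb a ha
      rw [← S.coset_sum hM (t := t * a0) (mul_mem ht.1 (wcl_le z P a0.2))
        (mul_mem ht.2 (hC a0.2)) (fun h => htA (by simpa using mul_mem h (inv_mem a0.2))) hχ',
        ← Equiv.sum_comp (Equiv.mulLeft a0) fun a : wcl z P => (χ : G → ℂ) (t * a)]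
      simp [mul_assoc]
    have e1 := S.coset_sum hM ht.1 ht.2 htA hχ'
    set Tt := ∑ a : wcl z P, (χ : G → ℂ) (t * a)
    have e2 : q * ((χ : G → ℂ) 1 * Tt) = Tt * sA χ P z := by
      rw [Finset.sum_mul, ← Finset.sum_congr rfl fun a _ => e a, Finset.sum_const, Finset.card_univ,
        nsmul_eq_mul, hq, Nat.card_eq_fintype_card]
    have e3 : (q * (χ : G → ℂ) 1 - sA χ P z) * ((χ : G → ℂ) 1 * Tt) = 0 := by
      linear_combination (χ : G → ℂ) 1 * e2
    rw [← e1]
    refine (mul_eq_zero.1 e3).resolve_left fun h => hne (S.eq_oneIrr_of_sA_eq ?_)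
    exact (sub_eq_zero.1 h).symm
  have hpt : ∀ a : wcl z P, ∑ χ ∈ B, (χ : G → ℂ) 1 * (χ : G → ℂ) (t * a) = 0 := by
    intro a
    refine weak_at hM ?_ (S.mem_pElement (mul_mem ht.1 (wcl_le z P a.2))) fun h => htA ?_
    · rw [orderOf_one]; exact (Fact.out : p.Prime).not_dvd_one
    · rw [mul_eq_one_iff_eq_inv] at h
      rw [h]; exact inv_mem a.2
  have htot : ∑ χ ∈ B, (χ : G → ℂ) t * sA χ P z = 0 := by
    rw [Finset.sum_congr rfl fun χ hχ =>
      (S.coset_sum hM ht.1 ht.2 htA (H22.mem_blockFinset.1 hχ)).symm]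
    simp only [Finset.mul_sum]
    rw [Finset.sum_comm]
    exact Finset.sum_eq_zero fun a _ => hpt a
  rw [Finset.sum_eq_single (H12.oneIrr G) hzero (fun h => absurd
    (H22.mem_blockFinset.2 (H20.mem_blockOf_self (H12.oneIrr G))) h), H12.oneIrr_apply,
    S.sA_oneIrr, one_mul] at htot
  exact Nat.card_pos.ne' (Nat.cast_eq_zero.1 htot)

omit [M.IsPrime] in
theorem isSylowIn_wcl_inf (hinter : (P : Subgroup G) ⊓ centralizer (wcl z P : Set G) ≤ wcl z P)
    {w : G} (hw : w ∈ wcl z P) :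
    IsSylowIn p (wcl z P) (centralizer (wcl z P : Set G) ⊓ centralizer ({w} : Set G)) := by
  refine ⟨fun a ha => ⟨mem_centralizer_iff.mpr fun b hb => S.comm b hb a ha,
    S.wcl_le_centralizer hw ha⟩, wcl_isPGroup z P, fun Q hQ hQD => ?_⟩
  exact (S.isSylowIn_inter.2.2 Q hQ (hQD.trans inf_le_left)).trans (card_le_of_le hinter)

/-- The block sum against a column at a nontrivial element of `A`. -/
noncomputable def R0 (_S : Setup p z P) (M : Ideal AlgInt) (v : G) : ℂ :=
  ∑ k : wcl z P, ∑ χ ∈ H22.blockFinset (principalBlock M G), (χ : G → ℂ) v * (χ : G → ℂ) k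

/-- In a `p`-soluble `X ⊇ A` the block value of `b k` only depends on its image in `A`. -/
theorem block_eq (hM : IsPModular p M)
    (hinter : (P : Subgroup G) ⊓ centralizer (wcl z P : Set G) ≤ wcl z P) {X : Subgroup G}
    (hAX : wcl z P ≤ X) {v w k : G} (hv : v ∈ wcl z P) (hv1 : v ≠ 1) (hw : w ∈ wcl z P)
    (hk : k ∈ coreIn p X) :
    ∑ χ ∈ H22.blockFinset (principalBlock M G), (χ : G → ℂ) v * (χ : G → ℂ) (k * w) =
      ∑ χ ∈ H22.blockFinset (principalBlock M G), (χ : G → ℂ) v * (χ : G → ℂ) w := by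
  by_cases hw1 : w = 1
  · subst hw1
    have h1 : ∀ x : G, ¬ p ∣ orderOf x →
        ∑ χ ∈ H22.blockFinset (principalBlock M G), (χ : G → ℂ) v * (χ : G → ℂ) x = 0 := by
      intro x hx
      refine Eq.trans (Finset.sum_congr rfl fun χ _ => mul_comm _ _) ?_
      exact weak_at hM hx (S.mem_pElement (wcl_le z P hv)) hv1
    rw [mul_one, h1 _ fun h => ?_, h1 _ ?_]
    · rw [orderOf_one]; exact (Fact.out : p.Prime).not_dvd_one
    · exact (Nat.Prime.coprime_iff_not_dvd Fact.out).1 (coprime_coreIn X).symm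
        (h.trans (Subgroup.orderOf_dvd_natCard _ hk))
  refine Finset.sum_congr rfl fun χ hχ => ?_
  rw [S.value_eq hM hAX (hAX hw) hw1 (S.mem_pElement (wcl_le z P hw)) (S.wcl_le_centralizer hw)
    (S.isSylowIn_wcl_inf hinter hw) hAX hk (H22.mem_blockFinset.1 hχ)]

/-- The two-factor equation. -/
theorem pair_equation (hM : IsPModular p M)
    (hinter : (P : Subgroup G) ⊓ centralizer (wcl z P : Set G) ≤ wcl z P) {v b : G}
    (hv : v ∈ wcl z P) (hv1 : v ≠ 1) (hb : b ∈ wcl z P) :
    ∑ χ ∈ H22.blockFinset (principalBlock M G),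
      (χ : G → ℂ) v * (χ : G → ℂ) b * sA χ P z / (χ : G → ℂ) 1 = R0 S M v := by
  have hg : ∀ g : G, ∑ a : wcl z P, ∑ χ ∈ H22.blockFinset (principalBlock M G),
      (χ : G → ℂ) v * (χ : G → ℂ) (b * (g * a * g⁻¹)) = R0 S M v := by
    intro g
    set X := (P : Subgroup G) ⊔ (g • P : Sylow p G) with hX
    have hAX : wcl z P ≤ X := (wcl_le z P).trans le_sup_left
    have hgX : cj g (wcl z P) ≤ X := by
      refine le_trans ?_ le_sup_right
      rw [Sylow.smul_def, Sylow.pointwise_smul_def]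
      exact cj_mono g (wcl_le z P)
    obtain ⟨σ, hσ⟩ := S.matching (S.pair _ _) hAX hgX
    rw [R0, ← Equiv.sum_comp (σ.trans (Equiv.mulLeft (⟨b, hb⟩ : wcl z P))) fun k : wcl z P =>
      ∑ χ ∈ H22.blockFinset (principalBlock M G), (χ : G → ℂ) v * (χ : G → ℂ) k]
    refine Finset.sum_congr rfl fun a _ => ?_
    rw [show b * (g * (a : G) * g⁻¹) =
      (b * (g * a * g⁻¹ * (σ a : G)⁻¹) * b⁻¹) * (b * (σ a : G)) by group]
    exact S.block_eq hM hinter hAX hv hv1 (mul_mem hb (σ a).2)
      ((mem_set_normalizer_iff.mp (le_normalizer_coreIn (p := p) X (hAX hb)) _).mp (hσ a))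
  have h := Finset.sum_congr rfl fun g (_ : g ∈ (Finset.univ : Finset G)) => hg g
  rw [Finset.sum_const, Finset.card_univ, nsmul_eq_mul, ← Nat.card_eq_fintype_card] at h
  apply mul_left_cancel₀ (Nat.cast_ne_zero.2 (Nat.card_pos (α := G)).ne' : (Nat.card G : ℂ) ≠ 0)
  rw [← h, Finset.mul_sum]
  calc ∑ χ ∈ H22.blockFinset (principalBlock M G), (Nat.card G : ℂ) *
        ((χ : G → ℂ) v * (χ : G → ℂ) b * sA χ P z / (χ : G → ℂ) 1)
      = ∑ χ ∈ H22.blockFinset (principalBlock M G), (χ : G → ℂ) v *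
          ∑ g : G, ∑ a : wcl z P, (χ : G → ℂ) (b * (g * a * g⁻¹)) :=
        Finset.sum_congr rfl fun χ _ => by rw [sum_apply_conj, sA]; ring
    _ = _ := by
        simp only [Finset.mul_sum]
        rw [Finset.sum_comm]
        exact Finset.sum_congr rfl fun g _ => Finset.sum_comm

/-- The three-factor equation, when any three conjugates of `A` generate a proper subgroup. -/
theorem triple_equation (hM : IsPModular p M)
    (hinter : (P : Subgroup G) ⊓ centralizer (wcl z P : Set G) ≤ wcl z P)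
    (hall : ∀ g h : G, wcl z P ⊔ cj g (wcl z P) ⊔ cj h (wcl z P) ≠ ⊤) {v b : G}
    (hv : v ∈ wcl z P) (hv1 : v ≠ 1) (hb : b ∈ wcl z P) :
    ∑ χ ∈ H22.blockFinset (principalBlock M G),
      (χ : G → ℂ) v * (χ : G → ℂ) b * (sA χ P z / (χ : G → ℂ) 1) ^ 2 =
      (Nat.card (wcl z P) : ℂ) * R0 S M v := by
  have hgh : ∀ g h : G, ∑ a : wcl z P, ∑ c : wcl z P,
      ∑ χ ∈ H22.blockFinset (principalBlock M G),
        (χ : G → ℂ) v * (χ : G → ℂ) (b * (g * a * g⁻¹) * (h * c * h⁻¹)) =
      (Nat.card (wcl z P) : ℂ) * R0 S M v := by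
    intro g h
    set X := wcl z P ⊔ cj g (wcl z P) ⊔ cj h (wcl z P) with hX
    have hAX : wcl z P ≤ X := le_sup_left.trans le_sup_left
    have hXs := S.proper X (hall g h)
    obtain ⟨σ, hσ⟩ := S.matching hXs hAX (g := g) (le_sup_right.trans le_sup_left)
    obtain ⟨τ, hτ⟩ := S.matching hXs hAX (g := h) le_sup_right
    rw [Nat.card_eq_fintype_card, ← Finset.card_univ, ← nsmul_eq_mul, ← Finset.sum_const]
    refine Finset.sum_congr rfl fun a _ => ?_
    rw [R0, ← Equiv.sum_comp (τ.trans (Equiv.mulLeft (⟨b, hb⟩ * σ a : wcl z P)))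
      fun k : wcl z P =>
      ∑ χ ∈ H22.blockFinset (principalBlock M G), (χ : G → ℂ) v * (χ : G → ℂ) k]
    refine Finset.sum_congr rfl fun c _ => ?_
    have hn := le_normalizer_coreIn (p := p) X
    rw [show b * (g * (a : G) * g⁻¹) * (h * (c : G) * h⁻¹) =
      ((b * (g * a * g⁻¹ * (σ a : G)⁻¹) * b⁻¹) *
        ((b * (σ a : G)) * (h * c * h⁻¹ * (τ c : G)⁻¹) * (b * (σ a : G))⁻¹)) *
        (b * (σ a : G) * (τ c : G)) by group]
    exact S.block_eq hM hinter hAX hv hv1 (mul_mem (mul_mem hb (σ a).2) (τ c).2)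
      (mul_mem ((mem_set_normalizer_iff.mp (hn (hAX hb)) _).mp (hσ a))
        ((mem_set_normalizer_iff.mp (hn (hAX (mul_mem hb (σ a).2))) _).mp (hτ c)))
  have h := Finset.sum_congr rfl fun g (_ : g ∈ (Finset.univ : Finset G)) =>
    Finset.sum_congr rfl fun h (_ : h ∈ (Finset.univ : Finset G)) => hgh g h
  simp only [Finset.sum_const, Finset.card_univ, nsmul_eq_mul, ← Nat.card_eq_fintype_card] at h
  have hG : (Nat.card G : ℂ) ≠ 0 := Nat.cast_ne_zero.2 (Nat.card_pos (α := G)).ne'
  apply mul_left_cancel₀ hG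
  apply mul_left_cancel₀ hG
  rw [← h, Finset.mul_sum, Finset.mul_sum]
  calc ∑ χ ∈ H22.blockFinset (principalBlock M G), (Nat.card G : ℂ) * ((Nat.card G : ℂ) *
        ((χ : G → ℂ) v * (χ : G → ℂ) b * (sA χ P z / (χ : G → ℂ) 1) ^ 2))
      = ∑ χ ∈ H22.blockFinset (principalBlock M G), (χ : G → ℂ) v *
          ∑ g : G, ∑ a : wcl z P, ∑ h : G, ∑ c : wcl z P,
            (χ : G → ℂ) (b * (g * a * g⁻¹) * (h * c * h⁻¹)) :=
        Finset.sum_congr rfl fun χ _ => by
          simp only [sum_apply_conj, ← Finset.mul_sum, ← Finset.sum_mul, ← Finset.sum_div, ← sA.eq_def]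
          ring
    _ = _ := by
        simp only [Finset.mul_sum]
        rw [Finset.sum_comm]
        refine Finset.sum_congr rfl fun g _ => ?_
        rw [Finset.sum_comm, Finset.sum_comm (γ := G)]
        refine Finset.sum_congr rfl fun a _ => ?_
        rw [Finset.sum_comm]
        exact Finset.sum_congr rfl fun h _ => Finset.sum_comm

end Setup

end H66.PairGen
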