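import Cfsg.Agent.H66.PairGen.LocalCore
import Cfsg.Agent.H31.ExtOdd.Equation

/-!
A simple group which is not `p`-soluble although all proper subgroups and all pairs of Sylow
`p`-subgroups generate `p`-soluble groups: the local facts used by the character argument.
-/

set_option autoImplicit false
set_option linter.style.haveILetI false

open Subgroup Cfsg
open scoped commutatorElement ComplexConjugate

namespace H66.PairGen

open H70 H31.EXO

universe u

variable {G : Type u} [Group G] {p : ℕ}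

/-- A minimal counterexample with a chosen element `z` central in the Sylow subgroup `P`. -/
structure Setup (p : ℕ) [Group G] (z : G) (P : Sylow p G) : Prop where
  simple : IsSimpleGroup G
  notPSolvable : ¬ IsPSolvable p G
  proper : ∀ S : Subgroup G, S ≠ ⊤ → IsPSolvable p S
  pair : ∀ P Q : Sylow p G, IsPSolvable p ↥((P : Subgroup G) ⊔ Q)
  mem : z ∈ (P : Subgroup G)
  central : ∀ s ∈ (P : Subgroup G), s * z = z * s
  ne_one : z ≠ 1
  pow_eq : z ^ p = 1

/-- A maximal `p`-subgroup of `D`, recorded by its order. -/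
def IsSylowIn (p : ℕ) (W D : Subgroup G) : Prop :=
  W ≤ D ∧ IsPGroup p W ∧ ∀ Q : Subgroup G, IsPGroup p Q → Q ≤ D → Nat.card Q ≤ Nat.card W

theorem IsSylowIn.exists_sylow [Finite G] {W D : Subgroup G} (h : IsSylowIn p W D) :
    ∃ S : Sylow p D, (S : Subgroup D).map D.subtype = W := by
  obtain ⟨S, hS⟩ := (h.2.1.comap_of_injective D.subtype D.subtype_injective).exists_le_sylow
  refine ⟨S, (eq_of_le_of_card_ge ?_ (h.2.2 _ (S.2.map _) (map_subtype_le _))).symm⟩
  exact fun w hw => ⟨⟨w, h.1 hw⟩, hS hw, rfl⟩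

theorem isSylowIn_map [Finite G] [Fact p.Prime] {D : Subgroup G} (S : Sylow p D) :
    IsSylowIn p ((S : Subgroup D).map D.subtype) D := by
  refine ⟨map_subtype_le _, S.2.map _, fun Q hQ hQD => ?_⟩
  obtain ⟨h, -, hle⟩ := H68.exists_cj_le_of_sylow S hQ hQD
  exact (card_cj h Q).symm.le.trans (card_le_of_le hle)

theorem IsSylowIn.conj [Finite G] {W D : Subgroup G} (h : IsSylowIn p W D) (c : G) :
    IsSylowIn p (cj c W) (cj c D) := by
  refine ⟨cj_mono c h.1, h.2.1.map _, fun Q hQ hQD => ?_⟩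
  have := h.2.2 (cj c⁻¹ Q) (hQ.map _) (by
    have := cj_mono c⁻¹ hQD
    rwa [cj_cj, inv_mul_cancel, cj_one] at this)
  rwa [card_cj, ← card_cj c W] at this

theorem IsSylowIn.mem_of_central [Finite G] [Fact p.Prime] {W D : Subgroup G}
    (h : IsSylowIn p W D) {t : G} (ht : t ∈ D) (htp : ∃ j, t ^ p ^ j = 1)
    (hc : ∀ x ∈ D, x * t = t * x) : t ∈ W := by
  obtain ⟨S, rfl⟩ := h.exists_sylow
  set t' : D := ⟨t, ht⟩
  haveI : (zpowers t').Normal := ⟨fun x hx g => by
    obtain ⟨i, rfl⟩ := mem_zpowers_iff.mp hx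
    have hcm : Commute g t' := Subtype.ext (hc g g.2)
    rw [(hcm.zpow_right i).eq, mul_inv_cancel_right]
    exact zpow_mem (mem_zpowers t') i⟩
  have hp : IsPGroup p (zpowers t') := by
    obtain ⟨j, hj⟩ := htp
    rw [IsPGroup.iff_card, Nat.card_zpowers]
    obtain ⟨i, -, hi⟩ := (Nat.dvd_prime_pow Fact.out).mp
      (orderOf_dvd_of_pow_eq_one (show t' ^ p ^ j = 1 from Subtype.ext (by simpa using hj)))
    exact ⟨i, hi⟩
  exact ⟨t', H10.pCore_le_sylow S (H10.le_pCore inferInstance hp (mem_zpowers t')), rfl⟩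

namespace Setup

variable {z : G} {P : Sylow p G} (S : Setup p z P)
include S

theorem isCentral : IsCentral p z := ⟨P, S.mem, S.central⟩

theorem pair_ne_top [Fact p.Prime] (Q R : Sylow p G) : (Q : Subgroup G) ⊔ R ≠ ⊤ := by
  intro h
  have h1 := S.pair Q R
  rw [h] at h1
  exact S.notPSolvable (H10.isPSolvable_of_equiv h1 Subgroup.topEquiv)

theorem eq_bot_of_normal (N : Subgroup G) [N.Normal] (h : N ≠ ⊤) : N = ⊥ :=
  ((S.simple.eq_bot_or_eq_top_of_normal N inferInstance).resolve_right h)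

theorem not_comm [Finite G] [Fact p.Prime] : ¬ ∀ a b : G, a * b = b * a := fun h => by
  haveI : Group.IsSolvable G := Group.isSolvable_of_comm h
  exact S.notPSolvable H10.isPSolvable_of_isSolvable

theorem centralizer_ne_top [Finite G] [Fact p.Prime] {w : G} (hw : w ≠ 1) :
    centralizer ({w} : Set G) ≠ ⊤ := by
  intro h
  have hmem : w ∈ center G := mem_center_iff.mpr fun g =>
    mem_centralizer_singleton_iff.mp (h ▸ mem_top g)
  rcases S.simple.eq_bot_or_eq_top_of_normal (center G) inferInstance with h0 | h0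
  · rw [h0, mem_bot] at hmem
    exact hw hmem
  · exact S.not_comm fun a b => mem_center_iff.mp (h0 ▸ mem_top b) a

theorem sylow_le_normalizer : (P : Subgroup G) ≤ normalizer (wcl z P : Set G) :=
  le_normalizer.trans (normalizer_le_normalizer_wcl z P)

theorem mem_wcl : z ∈ wcl z P := conj_mem_wcl (IsConj.refl z) S.mem

theorem comm [Finite G] [Fact p.Prime] :
    ∀ a ∈ wcl z P, ∀ b ∈ wcl z P, a * b = b * a := wcl_comm S.pair S.isCentral P

theorem wcl_le_centralizer [Finite G] [Fact p.Prime] {a : G} (ha : a ∈ wcl z P) :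
    wcl z P ≤ centralizer ({a} : Set G) := fun b hb =>
  mem_centralizer_singleton_iff.mpr (S.comm b hb a ha)

/-- Characters of the principal block are constant on the cosets `K w`. -/
theorem value_eq [Fintype G] [Fact p.Prime] {M : Ideal AlgInt} [M.IsPrime] (hM : IsPModular p M)
    {X : Subgroup G} (hAX : wcl z P ≤ X) {w : G} (hwX : w ∈ X) (hw1 : w ≠ 1)
    (hwp : ∃ j, w ^ p ^ j = 1) (hwA : wcl z P ≤ centralizer ({w} : Set G))
    {W : Subgroup G} (hW : IsSylowIn p W (centralizer (wcl z P : Set G) ⊓ centralizer ({w} : Set G)))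
    (hWX : W ≤ X) {k : G} (hk : k ∈ coreIn p X) {χ : IrrCharacter G}
    (hχ : χ ∈ principalBlock M G) : (χ : G → ℂ) (k * w) = (χ : G → ℂ) w := by
  obtain ⟨j, hj⟩ := hwp
  obtain ⟨i, -, hi⟩ := (Nat.dvd_prime_pow Fact.out).mp (orderOf_dvd_of_pow_eq_one hj)
  have hn := le_normalizer_coreIn (p := p) X
  obtain ⟨c, -, y, hy, hwy, e⟩ := exists_conj_centralized (K := coreIn p X) (hn hwX)
    (by rw [hi]; exact ((coprime_coreIn X).pow_right i).symm) hk
  obtain ⟨W', hW'⟩ := hW.exists_sylow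
  have hC : centralizer ({w} : Set G) ≠ ⊤ := S.centralizer_ne_top hw1
  have hR : coreIn p X ⊓ centralizer ({w} : Set G) ≤ centralizerPPrimeCore p w := by
    refine le_centralizerPPrimeCore (wcl_isPGroup z P) (S.proper _ hC) hwA (fun g hg => ?_)
      ((coprime_coreIn X).coprime_dvd_left (card_dvd_of_le inf_le_left)) inf_le_right ?_ W' ?_
    · refine cj_wcl_le S.pair S.isCentral P (S.proper _ hC) hwA ?_
      rintro _ ⟨a, ha, rfl⟩
      exact mul_mem (mul_mem hg (hwA ha)) (inv_mem hg)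
    · exact (le_inf (hAX.trans hn) (hwA.trans le_normalizer)).trans inf_normalizer_le_normalizer_inf
    · rw [hW']
      exact (le_inf (hWX.trans hn) ((hW.1.trans inf_le_right).trans le_normalizer)).trans
        inf_normalizer_le_normalizer_inf
  rw [e, irr_conj_comm, H85.irr_apply_mul_pPrimeCore hM ⟨i, hi⟩
    (hR ⟨hy, mem_centralizer_singleton_iff.mpr hwy.eq.symm⟩) hχ]

omit S in
/-- Weak orthogonality at a `p`-element. -/
theorem weak_at [Fintype G] [Fact p.Prime] {M : Ideal AlgInt} [M.IsPrime] (hM : IsPModular p M)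
    {x v : G} (hx : ¬ p ∣ orderOf x) (hv : ∃ j, v ^ p ^ j = 1) (hv1 : v ≠ 1) :
    ∑ χ ∈ H22.blockFinset (principalBlock M G), (χ : G → ℂ) x * (χ : G → ℂ) v = 0 := by
  obtain ⟨j, hj⟩ := hv
  have hd : p ∣ orderOf v⁻¹ := by
    rw [orderOf_inv]
    obtain ⟨i, -, hi⟩ := (Nat.dvd_prime_pow Fact.out).mp (orderOf_dvd_of_pow_eq_one hj)
    rw [hi]
    refine dvd_pow_self p fun h => hv1 ?_
    rw [h, pow_zero, orderOf_eq_one_iff] at hi
    exact hi
  have h0 := H20.weak_orthogonality hM (H20.isPBlock_principalBlock (M := M) (G := G))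
    (x := x) (y := v⁻¹) hx hd
  rw [H22.finsum_mem_block] at h0
  refine Eq.trans (Finset.sum_congr rfl fun χ _ => ?_) h0
  rw [H12.irr_inv, Complex.conj_conj]

omit S in
/-- The matching of `g A g⁻¹` with `A` modulo a normalised `p'`-subgroup. -/
theorem exists_matching [Finite G] [Fact p.Prime] {A K : Subgroup G} (hA : IsPGroup p A)
    (hK : (Nat.card K).Coprime p) (hn : A ≤ normalizer (K : Set G)) (g : G)
    (hle : cj g A ≤ K ⊔ A) :
    ∃ σ : A ≃ A, ∀ a : A, g * a * g⁻¹ * (σ a : G)⁻¹ ∈ K := by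
  have hex : ∀ a : A, ∃ a' : A, g * a * g⁻¹ * (a' : G)⁻¹ ∈ K := fun a => by
    obtain ⟨k, hk, b, hb, e⟩ := H68.EC.exists_mul_of_mem_sup hn
      (hle (show g * (a : G) * g⁻¹ ∈ cj g A from mem_cj.2 (by simpa [mul_assoc] using a.2)))
    exact ⟨⟨b, hb⟩, by rw [e, mul_inv_cancel_right]; exact hk⟩
  choose σ hσ using hex
  have hinj : Function.Injective σ := by
    intro a b e
    have h1 := K.mul_mem (hσ a) (K.inv_mem (hσ b))
    rw [e, show g * (a : G) * g⁻¹ * (σ b : G)⁻¹ * (g * (b : G) * g⁻¹ * (σ b : G)⁻¹)⁻¹ =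
      g * ((a : G) * (b : G)⁻¹) * g⁻¹ by group] at h1
    refine Subtype.ext (mul_inv_eq_one.1 ?_)
    have h2 : (g * ((a : G) * (b : G)⁻¹) * g⁻¹) ^ Nat.card K = 1 := by
      have h0 := congrArg Subtype.val (pow_card_eq_one' (x := (⟨_, h1⟩ : K)))
      rw [SubmonoidClass.coe_pow, Subgroup.coe_one] at h0
      exact h0
    rw [conj_pow] at h2
    exact eq_one_of_coprime hA hK (A.mul_mem a.2 (A.inv_mem b.2)) (conj_eq_one_iff.1 h2)
  exact ⟨Equiv.ofBijective σ hinj.bijective_of_finite, hσ⟩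

/-- The matching inside a `p`-soluble subgroup containing `A` and `g A g⁻¹`. -/
theorem matching [Finite G] [Fact p.Prime] {X : Subgroup G} (hX : IsPSolvable p X)
    (hAX : wcl z P ≤ X) {g : G} (hg : cj g (wcl z P) ≤ X) :
    ∃ σ : wcl z P ≃ wcl z P, ∀ a : wcl z P, g * a * g⁻¹ * (σ a : G)⁻¹ ∈ coreIn p X :=
  exists_matching (wcl_isPGroup z P) (coprime_coreIn X) (hAX.trans (le_normalizer_coreIn X)) g
    (cj_wcl_le S.pair S.isCentral P hX hAX hg)

/-- `P ∩ C(A)` is a Sylow subgroup of `C(A)`. -/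
theorem exists_cj_le [Finite G] [Fact p.Prime] {Q : Subgroup G} (hQ : IsPGroup p Q)
    (hQC : Q ≤ centralizer (wcl z P : Set G)) :
    ∃ c ∈ normalizer (wcl z P : Set G),
      cj c Q ≤ (P : Subgroup G) ⊓ centralizer (wcl z P : Set G) := by
  have hCN : centralizer (wcl z P : Set G) ≤ normalizer (wcl z P : Set G) :=
    centralizer_le_normalizer _
  obtain ⟨n, hn, hle⟩ := H68.exists_cj_le_of_sylow (P.subtype S.sylow_le_normalizer) hQ
    (hQC.trans hCN)
  refine ⟨n, hn, le_inf (hle.trans ?_) ?_⟩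
  · rintro _ ⟨x, hx, rfl⟩
    exact hx
  · rintro _ ⟨x, hx, rfl⟩
    refine mem_centralizer_iff.mpr fun a ha => ?_
    have ha' : n⁻¹ * a * n ∈ wcl z P := by
      have := (mem_set_normalizer_iff.mp (inv_mem hn) a).mp ha
      simpa using this
    have h := mem_centralizer_iff.mp (hQC hx) _ ha'
    simp only [MulEquiv.coe_toMonoidHom, MulAut.conj_apply]
    calc a * (n * x * n⁻¹) = n * (n⁻¹ * a * n * x) * n⁻¹ := by group
      _ = n * (x * (n⁻¹ * a * n)) * n⁻¹ := by rw [h]
      _ = n * x * n⁻¹ * a := by group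

theorem isSylowIn_inter [Finite G] [Fact p.Prime] :
    IsSylowIn p ((P : Subgroup G) ⊓ centralizer (wcl z P : Set G))
      (centralizer (wcl z P : Set G)) := by
  refine ⟨inf_le_right, P.2.to_le inf_le_left, fun Q hQ hQC => ?_⟩
  obtain ⟨c, -, hle⟩ := S.exists_cj_le hQ hQC
  exact (card_cj c Q).symm.le.trans (card_le_of_le hle)

/-- Every element of `P ∩ C(A)` has a `C(A)`-conjugate in it whose centraliser in `C(A)` has a
Sylow subgroup inside `P`. -/
theorem exists_centralized_conj [Finite G] [Fact p.Prime] {t : G} (htP : t ∈ (P : Subgroup G))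
    (htC : t ∈ centralizer (wcl z P : Set G)) :
    ∃ c ∈ centralizer (wcl z P : Set G), ∃ W : Subgroup G,
      W ≤ (P : Subgroup G) ∧ c * t * c⁻¹ ∈ W ∧
      IsSylowIn p W (centralizer (wcl z P : Set G) ⊓ centralizer ({c * t * c⁻¹} : Set G)) := by
  set D := centralizer (wcl z P : Set G) ⊓ centralizer ({t} : Set G)
  obtain ⟨W'⟩ := (inferInstance : Nonempty (Sylow p D))
  have hW0 := isSylowIn_map W'
  obtain ⟨j, hj⟩ := P.2 ⟨t, htP⟩
  have htW := hW0.mem_of_central (t := t) ⟨htC, mem_centralizer_singleton_iff.mpr rfl⟩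
    ⟨j, by simpa using congrArg Subtype.val hj⟩
    (fun x hx => mem_centralizer_singleton_iff.mp hx.2)
  obtain ⟨T, hT⟩ := S.isSylowIn_inter.exists_sylow
  obtain ⟨c, hc, hle⟩ := H68.exists_cj_le_of_sylow T hW0.2.1 (hW0.1.trans inf_le_left)
  rw [hT] at hle
  refine ⟨c, hc, _, hle.trans inf_le_left, ⟨t, htW, rfl⟩, ?_⟩
  have h := hW0.conj c
  convert h using 1
  refine le_antisymm ?_ ?_
  · intro x hx
    refine mem_cj.mpr (mem_inf.mpr ⟨?_, ?_⟩)
    · exact mul_mem (mul_mem (inv_mem hc) hx.1) hc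
    · rw [mem_centralizer_singleton_iff]
      have h2 := mem_centralizer_singleton_iff.mp hx.2
      calc c⁻¹ * x * c * t = c⁻¹ * (x * (c * t * c⁻¹)) * c := by group
        _ = c⁻¹ * ((c * t * c⁻¹) * x) * c := by rw [h2]
        _ = t * (c⁻¹ * x * c) := by group
  · rintro _ ⟨x, hx, rfl⟩
    refine mem_inf.mpr
      ⟨mul_mem (mul_mem hc hx.1) (inv_mem hc), mem_centralizer_singleton_iff.mpr ?_⟩
    have h2 := mem_centralizer_singleton_iff.mp hx.2
    simp only [MulEquiv.coe_toMonoidHom, MulAut.conj_apply]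
    calc c * x * c⁻¹ * (c * t * c⁻¹) = c * (x * t) * c⁻¹ := by group
      _ = c * (t * x) * c⁻¹ := by rw [h2]
      _ = c * t * c⁻¹ * (c * x * c⁻¹) := by group

/-- A nontrivial principal character does not contain `A` in its kernel. -/
theorem eq_oneIrr_of_apply_eq [Fintype G] [Fact p.Prime] {χ : IrrCharacter G} {a : G} (ha : a ≠ 1)
    (h : (χ : G → ℂ) a = (χ : G → ℂ) 1) : χ = H12.oneIrr G := by
  by_contra hne
  haveI := H12.charKer_normal (H12.isCharacter_irr χ)
  have htop : H12.charKer _ (H12.isCharacter_irr χ) = ⊤ := by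
    by_contra h1
    have h2 := S.eq_bot_of_normal _ h1
    exact ha (by simpa [h2] using (show a ∈ H12.charKer _ (H12.isCharacter_irr χ) from h))
  have hsum : ∑ x : G, (χ : G → ℂ) x = 0 := by
    have h1 := H12.classInner_irr_ne hne
    simpa [H12.classInner_def, H12.oneIrr_apply, H12.card_ne_zero'] using h1
  rw [Finset.sum_congr rfl fun x _ =>
    (show (χ : G → ℂ) x = (χ : G → ℂ) 1 from (htop.symm ▸ Subgroup.mem_top x :
      x ∈ H12.charKer _ (H12.isCharacter_irr χ))), Finset.sum_const, Finset.card_univ,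
    nsmul_eq_mul] at hsum
  exact mul_ne_zero (Nat.cast_ne_zero.2 Fintype.card_ne_zero) (H12.irr_apply_one_ne_zero χ) hsum

end Setup

end H66.PairGen
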